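import Cfsg.Agent.Lib.SylowNumbers.TwentyTwo.Small

/-!
In the minimal configuration the group has more than three orbitals.
-/

set_option autoImplicit false

namespace CfsgLib.SylowNumbers.TwentyTwo

open Equiv Subgroup MulAction
open scoped Pointwise Matrix

variable {α : Type*} [Fintype α] [DecidableEq α] (G : Subgroup (Perm α))

/-- The orbitals. -/
abbrev OrbQ : Type _ := MulAction.orbitRel.Quotient G (α × α)

/-- The orbital of a pair. -/
def cl (x y : α) : OrbQ G := Quotient.mk'' (x, y)

omit [Fintype α] [DecidableEq α] in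
theorem cl_eq_iff {x y x' y' : α} : cl G x y = cl G x' y' ↔ ∃ g : G, g • x' = x ∧ g • y' = y := by
  rw [cl, cl, Quotient.eq'', orbitRel_apply]
  constructor
  · rintro ⟨g, hg⟩
    exact ⟨g, congrArg Prod.fst hg, congrArg Prod.snd hg⟩
  · rintro ⟨g, h1, h2⟩
    exact ⟨g, Prod.ext h1 h2⟩

omit [Fintype α] [DecidableEq α] in
theorem cl_smul (g : G) (x y : α) : cl G (g • x) (g • y) = cl G x y :=
  (cl_eq_iff G).2 ⟨g, rfl, rfl⟩

/-- The number of pairs `(x, y)` in a given orbital with given first entry. -/
noncomputable def row (v : OrbQ G) (x : α) : ℕ :=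
  open Classical in (Finset.univ.filter fun y => cl G x y = v).card

omit [DecidableEq α] in
theorem row_smul (v : OrbQ G) (g : G) (x : α) : row G v (g • x) = row G v x := by
  classical
  unfold row
  refine (Finset.card_equiv (MulAction.toPerm g) fun y => ?_).symm
  simp [cl_smul]

variable {G} (hG : Hyp G)

include hG

theorem Hyp.row_const (v : OrbQ G) (x o : α) : row G v x = row G v o := by
  obtain ⟨g, rfl⟩ := hG.trans.exists_smul_eq o x
  exact row_smul G v g o

theorem Hyp.row_dvd {v : OrbQ G} {o : α} (hv : v ≠ cl G o o) : 3 ∣ row G v o := by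
  classical
  haveI : Fact (Nat.Prime 3) := ⟨by norm_num⟩
  obtain ⟨P, hP, honly⟩ := hG.pcore o
  have hfix : ∀ u ∈ (P : Subgroup G), u • o = o := fun u hu => by
    have : u ∈ stabilizer G o := hP ▸ Subgroup.le_normalizer hu
    exact this
  letI : MulAction (P : Subgroup G) {y : α // cl G o y = v} :=
    { smul := fun u y => ⟨(u : G) • y.1, by
        have h := cl_smul G (u : G) o y.1
        rw [hfix u u.2] at h
        exact h.trans y.2⟩
      one_smul := fun y => Subtype.ext (one_smul G y.1)
      mul_smul := fun u w y => Subtype.ext (mul_smul (u : G) (w : G) y.1) }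
  have h := P.2.card_modEq_card_fixedPoints (α := {y : α // cl G o y = v})
  have h0 : Nat.card (fixedPoints (P : Subgroup G) {y : α // cl G o y = v}) = 0 := by
    haveI : IsEmpty (fixedPoints (P : Subgroup G) {y : α // cl G o y = v}) := ⟨fun ⟨⟨y, hy⟩, hfy⟩ => by
      have : y = o := honly y fun u hu => congrArg Subtype.val (hfy ⟨u, hu⟩)
      exact hv (this ▸ hy.symm)⟩
    exact Nat.card_of_isEmpty
  rw [h0, Nat.card_eq_fintype_card, Fintype.card_subtype] at h
  exact Nat.modEq_zero_iff_dvd.1 h

/-- A symmetric orbital of small valency. -/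
theorem Hyp.exists_rel (h3 : Nat.card (OrbQ G) ≤ 3) :
    ∃ (v w : OrbQ G) (k : ℕ), (k = 3 ∨ k = 6 ∨ k = 9) ∧ (∀ x, row G v x = k) ∧
      (∀ x y, cl G x y = v → cl G y x = v ∧ x ≠ y) ∧
      (∀ x y, x ≠ y → cl G x y ≠ v → cl G x y = w) := by
  classical
  haveI : Fintype (OrbQ G) := Fintype.ofFinite _
  rw [Nat.card_eq_fintype_card] at h3
  obtain ⟨o⟩ : Nonempty α := Fintype.card_pos_iff.1 (by rw [hG.card]; norm_num)
  obtain ⟨a, b, ha, hb, hab⟩ : ∃ a b, a ≠ o ∧ b ≠ o ∧ cl G o a ≠ cl G o b := by
    by_contra! h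
    refine hG.not_two_trans fun o' a b ha hb => ?_
    obtain ⟨g, hg⟩ := hG.trans.exists_smul_eq o o'
    subst hg
    have h' := h (g⁻¹ • a) (g⁻¹ • b) (fun e => ha (inv_smul_eq_iff.1 e)) (fun e => hb (inv_smul_eq_iff.1 e))
    obtain ⟨k, hk, hk'⟩ := (cl_eq_iff G).1 h'.symm
    refine ⟨g * k * g⁻¹, ?_, ?_⟩
    · rw [mul_smul, mul_smul, inv_smul_smul, hk]
    · rw [mul_smul, mul_smul, hk', smul_inv_smul]
  have hdiag : ∀ x y : α, cl G x y = cl G o o ↔ x = y := by
    intro x y
    constructor
    · intro h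
      obtain ⟨g, h1, h2⟩ := (cl_eq_iff G).1 h
      exact h1.symm.trans h2
    · rintro rfl
      obtain ⟨g, rfl⟩ := hG.trans.exists_smul_eq o x
      exact cl_smul G g o o
  have hA : cl G o a ≠ cl G o o := fun e => ha ((hdiag o a).1 e).symm
  have hB : cl G o b ≠ cl G o o := fun e => hb ((hdiag o b).1 e).symm
  have hcase : ∀ x y : α, x ≠ y → cl G x y = cl G o a ∨ cl G x y = cl G o b := by
    intro x y hxy
    by_contra! h
    have hne : cl G x y ≠ cl G o o := fun e => hxy ((hdiag x y).1 e)
    have h4 : ({cl G o o, cl G o a, cl G o b, cl G x y} : Finset (OrbQ G)).card = 4 := by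
      rw [Finset.card_insert_of_notMem, Finset.card_insert_of_notMem, Finset.card_insert_of_notMem,
        Finset.card_singleton] <;> simp [hab, hA.symm, hB.symm, hne.symm, h.1.symm, h.2.symm]
    have := Finset.card_le_univ ({cl G o o, cl G o a, cl G o b, cl G x y} : Finset (OrbQ G))
    omega
  have hsum : row G (cl G o a) o + row G (cl G o b) o = 21 := by
    unfold row
    rw [← Finset.card_union_of_disjoint]
    · have : (Finset.univ.filter fun y => cl G o y = cl G o a) ∪ (Finset.univ.filter fun y => cl G o y = cl G o b) =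
          Finset.univ.erase o := by
        ext y
        simp only [Finset.mem_union, Finset.mem_filter, Finset.mem_univ, true_and, Finset.mem_erase, and_true]
        refine ⟨?_, fun hy => hcase o y (Ne.symm hy)⟩
        rintro (e | e) rfl
        · exact hA e.symm
        · exact hB e.symm
      rw [this, Finset.card_erase_of_mem (Finset.mem_univ o), Finset.card_univ, hG.card]
    · rw [Finset.disjoint_filter]
      intro y _ h1 h2
      exact hab (h1.symm.trans h2)
  have hposa : 0 < row G (cl G o a) o := Finset.card_pos.2 ⟨a, by simp⟩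
  have hposb : 0 < row G (cl G o b) o := Finset.card_pos.2 ⟨b, by simp⟩
  -- choose the smaller one
  obtain ⟨v, w, hvo, hwo, hvw, hcase', hpos, hle, hsum'⟩ : ∃ v w : OrbQ G, v ≠ cl G o o ∧ w ≠ cl G o o ∧ v ≠ w ∧
      (∀ x y : α, x ≠ y → cl G x y = v ∨ cl G x y = w) ∧ 0 < row G v o ∧ row G v o ≤ 10 ∧
      row G v o + row G w o = 21 := by
    rcases Nat.le_total (row G (cl G o a) o) (row G (cl G o b) o) with h | h
    · exact ⟨_, _, hA, hB, hab, hcase, hposa, by omega, hsum⟩
    · exact ⟨_, _, hB, hA, hab.symm, fun x y hxy => (hcase x y hxy).symm, hposb, by omega, by omega⟩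
  have h3k := hG.row_dvd hvo
  refine ⟨v, w, row G v o, by omega, fun x => hG.row_const v x o, fun x y hxy => ?_,
    fun x y hxy h => (hcase' x y hxy).resolve_left h⟩
  have hne : x ≠ y := fun e => hvo (hxy.symm.trans ((hdiag x y).2 e))
  refine ⟨?_, hne⟩
  by_contra hyx
  have hyx' : cl G y x = w := (hcase' y x (Ne.symm hne)).resolve_left hyx
  have hflip : ∀ p q : α, cl G p q = v ↔ cl G q p = w := by
    intro p q
    constructor
    · intro h
      obtain ⟨g, h1, h2⟩ := (cl_eq_iff G).1 (h.trans hxy.symm)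
      rw [← h1, ← h2, cl_smul]
      exact hyx'
    · intro h
      obtain ⟨g, h1, h2⟩ := (cl_eq_iff G).1 (h.trans hyx'.symm)
      rw [← h1, ← h2, cl_smul]
      exact hxy
  have e1 : (∑ p : α, row G v p) = 22 * row G v o := by
    rw [Finset.sum_congr rfl fun p _ => hG.row_const v p o, Finset.sum_const, Finset.card_univ, hG.card, smul_eq_mul]
  have e2 : (∑ p : α, row G v p) = 22 * row G w o := by
    have : ∀ p, row G v p = ∑ q : α, if cl G p q = v then 1 else 0 := fun p => Finset.card_filter _ _
    rw [Finset.sum_congr rfl fun p _ => this p, Finset.sum_comm]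
    have : ∀ q : α, (∑ p : α, if cl G p q = v then 1 else 0) = row G w o := fun q => by
      rw [← hG.row_const w q o, row, Finset.card_filter]
      exact Finset.sum_congr rfl fun p _ => if_congr (hflip p q) rfl rfl
    rw [Finset.sum_congr rfl fun q _ => this q, Finset.sum_const, Finset.card_univ, hG.card, smul_eq_mul]
  omega

omit hG [DecidableEq α] in
theorem even_symm_sum_zero (f : α → ℤ) (O : Finset α) (β : ℤ) (hO : O.card = 11)
    (hcard : Fintype.card α = 22) (γ : ℤ) (h1 : ∀ x ∈ O, f x = β) (h2 : ∀ x ∉ O, f x = γ)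
    (h0 : ∑ x, f x = 0) : γ = -β := by
  classical
  rw [← Finset.sum_add_sum_compl O, Finset.sum_congr rfl h1,
    Finset.sum_congr rfl fun x hx => h2 x (Finset.mem_compl.1 hx), Finset.sum_const, Finset.sum_const,
    Finset.card_compl, hO, hcard, nsmul_eq_mul, nsmul_eq_mul] at h0
  push_cast at h0
  linarith

theorem Hyp.false_of_orbitals_le (h3 : Nat.card (OrbQ G) ≤ 3) : False := by
  classical
  obtain ⟨v, w, k, hk, hrow, hsymm, hw⟩ := hG.exists_rel h3
  haveI := hG.trans
  let M : Matrix α α ℤ := Matrix.of fun x y => if cl G x y = v then 1 else 0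
  let J : Matrix α α ℤ := Matrix.of fun _ _ => 1
  have hMapp : ∀ x y, M x y = if cl G x y = v then 1 else 0 := fun _ _ => rfl
  let N : α → α → ℕ := fun x y => (Finset.univ.filter fun z => cl G x z = v ∧ cl G z y = v).card
  have hNg : ∀ (g : G) x y, N (g • x) (g • y) = N x y := fun g x y =>
    (Finset.card_equiv (MulAction.toPerm g) fun z => by simp [cl_smul]).symm
  have hconst : ∀ x y x' y', cl G x y = cl G x' y' → N x y = N x' y' := by
    intro x y x' y' h
    obtain ⟨g, rfl, rfl⟩ := (cl_eq_iff G).1 h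
    exact hNg g x' y'
  obtain ⟨o⟩ : Nonempty α := Fintype.card_pos_iff.1 (by rw [hG.card]; norm_num)
  have hNdiag : ∀ x, N x x = k := by
    intro x
    rw [← hrow x]
    unfold N row
    congr 1
    ext z
    simp only [Finset.mem_filter, Finset.mem_univ, true_and, and_iff_left_iff_imp]
    exact fun h => (hsymm x z h).1
  obtain ⟨a, ha⟩ : ∃ a, cl G o a = v := by
    have : 0 < row G v o := by rw [hrow]; omega
    obtain ⟨a, ha⟩ := Finset.card_pos.1 this
    exact ⟨a, (Finset.mem_filter.1 ha).2⟩
  obtain ⟨b', hb'o, hb'⟩ : ∃ b, o ≠ b ∧ cl G o b ≠ v := by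
    by_contra! h
    have h21 : 21 ≤ row G v o := by
      have : (Finset.univ.erase o).card ≤ row G v o := by
        refine Finset.card_le_card fun y hy => ?_
        exact Finset.mem_filter.2 ⟨Finset.mem_univ y, h y (Ne.symm (Finset.mem_erase.1 hy).1)⟩
      rwa [Finset.card_erase_of_mem (Finset.mem_univ o), Finset.card_univ, hG.card] at this
    rw [hrow] at h21
    omega
  set b : ℕ := N o a with hbdef
  set c : ℕ := N o b' with hcdef
  have hMM : M * M = (k : ℤ) • 1 + (b : ℤ) • M + (c : ℤ) • (J - 1 - M) := by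
    ext x y
    have hN : (M * M) x y = (N x y : ℤ) := by
      rw [Matrix.mul_apply]
      show _ = ((Finset.univ.filter fun z => cl G x z = v ∧ cl G z y = v).card : ℤ)
      rw [Finset.card_filter]
      push_cast
      refine Finset.sum_congr rfl fun z _ => ?_
      rw [hMapp, hMapp]
      split_ifs <;> simp_all
    rw [hN]
    simp only [Matrix.add_apply, Matrix.smul_apply, Matrix.sub_apply, Matrix.one_apply, hMapp, J, Matrix.of_apply,
      smul_eq_mul]
    rcases eq_or_ne x y with rfl | hxy
    · rw [if_pos rfl, if_neg (fun h => (hsymm x x h).2 rfl), hNdiag]; ring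
    rw [if_neg hxy]
    by_cases hv : cl G x y = v
    · rw [if_pos hv, hconst x y o a (hv.trans ha.symm)]; ring
    · rw [if_neg hv, hconst x y o b' ((hw x y hxy hv).trans (hw o b' hb'o hb').symm)]; ring
  have hrowsum : ∀ x, ∑ y, M x y = k := by
    intro x
    rw [← hrow x, row, Finset.card_filter]
    push_cast
    rfl
  have hcolsum : ∀ y, ∑ x, M x y = k := by
    intro y
    rw [← hrowsum y]
    refine Finset.sum_congr rfl fun x _ => ?_
    rw [hMapp, hMapp]
    exact if_congr ⟨fun h => (hsymm _ _ h).1, fun h => (hsymm _ _ h).1⟩ rfl rfl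
  have hk2 : (k : ℤ) * k = k + b * k + c * (21 - k) := by
    have h1 := congrArg (fun A : Matrix α α ℤ => ∑ y, A o y) hMM
    have h2 : ∑ y, (M * M) o y = (k : ℤ) * k := by
      simp only [Matrix.mul_apply]
      rw [Finset.sum_comm]
      simp only [← Finset.mul_sum, hrowsum, ← Finset.sum_mul]
    simp only [h2, Matrix.add_apply, Matrix.smul_apply, Matrix.sub_apply, J, Matrix.of_apply, smul_eq_mul,
      Finset.sum_add_distrib, ← Finset.mul_sum, Finset.sum_sub_distrib, hrowsum, Finset.sum_const, Finset.card_univ,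
      hG.card] at h1
    simp only [Matrix.one_apply, Finset.sum_ite_eq, Finset.mem_univ, if_true] at h1
    rw [h1]; norm_num
  have hck : c ≤ k := by
    refine (Finset.card_le_card (t := Finset.univ.filter fun z => cl G o z = v) fun z hz => ?_).trans (hrow o).le
    exact Finset.mem_filter.2 ⟨Finset.mem_univ z, (Finset.mem_filter.1 hz).2.1⟩
  -- no block system
  have hc0 : c ≠ 0 := by
    intro hc
    have htr : ∀ x z y, cl G x z = v → cl G z y = v → x ≠ y → cl G x y = v := by
      intro x z y h1 h2 hxy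
      by_contra hv
      have h0 : N x y = 0 := by
        rw [hconst x y o b' ((hw x y hxy hv).trans (hw o b' hb'o hb').symm), ← hcdef, hc]
      rw [Finset.card_eq_zero] at h0
      have : z ∈ (∅ : Finset α) := h0 ▸ Finset.mem_filter.2 ⟨Finset.mem_univ z, h1, h2⟩
      simp at this
    let E : α → Set α := fun x => {y | y = x ∨ cl G x y = v}
    have hE : ∀ x z, z ∈ E x → E z = E x := by
      intro x z hz
      have hsub : ∀ p q, q ∈ E p → E q ⊆ E p := by
        intro p q hq r hr
        rcases hq with rfl | hq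
        · exact hr
        rcases hr with rfl | hr
        · exact Or.inr hq
        rcases eq_or_ne p r with rfl | hpr
        · exact Or.inl rfl
        · exact Or.inr (htr p q r hq hr hpr)
      have hxz : x ∈ E z := by
        rcases hz with rfl | hz
        · exact Or.inl rfl
        · exact Or.inr (hsymm x z hz).1
      exact Set.Subset.antisymm (hsub x z hz) (hsub z x hxz)
    have hgE : ∀ (g : G) x, g • E x = E (g • x) := by
      intro g x
      ext y
      rw [Set.mem_smul_set_iff_inv_smul_mem]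
      show (g⁻¹ • y = x ∨ cl G x (g⁻¹ • y) = v) ↔ (y = g • x ∨ cl G (g • x) y = v)
      rw [inv_smul_eq_iff, ← cl_smul G g x, smul_inv_smul]
    have hB : IsBlock G (E o) := by
      rw [isBlock_iff_smul_eq_smul_or_disjoint]
      intro g₁ g₂
      rw [hgE, hgE]
      rcases (E (g₁ • o) ∩ E (g₂ • o)).eq_empty_or_nonempty with h | ⟨z, h1, h2⟩
      · exact Or.inr (Set.disjoint_iff_inter_eq_empty.2 h)
      · exact Or.inl ((hE _ z h1).symm.trans (hE _ z h2))
    rcases hG.primitive.isTrivialBlock_of_isBlock hB with h | h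
    · exact (hsymm o a ha).2 (h (Or.inl rfl) (Or.inr ha))
    · have : b' ∈ E o := h ▸ Set.mem_univ b'
      rcases this with e | e
      · exact hb'o e.symm
      · exact hb' e
  -- the orbits of an element of order eleven
  obtain ⟨z, hz⟩ := hG.exists_eleven
  set O : Finset α := (orbit (Subgroup.zpowers z) o).toFinset with hO
  have hOcard : O.card = 11 := by rw [hO, ← Set.ncard_eq_toFinset_card', hG.orbit_card hz]
  let s : α → ℤ := fun x => if x ∈ O then 1 else -1
  have hsz : ∀ x, s (z • x) = s x := by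
    intro x
    refine if_congr ?_ rfl rfl
    have e : orbit (Subgroup.zpowers z) (z • x) = orbit (Subgroup.zpowers z) x :=
      MulAction.orbit_eq_iff.2 (MulAction.mem_orbit x (⟨z, Subgroup.mem_zpowers z⟩ : Subgroup.zpowers z))
    rw [Set.mem_toFinset, Set.mem_toFinset, ← MulAction.orbit_eq_iff, ← MulAction.orbit_eq_iff, e]
  let u : α → ℤ := fun x => ∑ y, M x y * s y
  have huz : ∀ x, u (z • x) = u x := by
    intro x
    show ∑ y, M (z • x) y * s y = ∑ y, M x y * s y
    rw [← Equiv.sum_comp (MulAction.toPerm z)]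
    refine Finset.sum_congr rfl fun y _ => ?_
    rw [MulAction.toPerm_apply, hMapp, hMapp, cl_smul, hsz]
  have huzn : ∀ (n : ℕ) x, u ((z ^ n) • x) = u x := by
    intro n
    induction n with
    | zero => simp
    | succ n ih => intro x; rw [pow_succ', mul_smul, huz, ih]
  obtain ⟨b₀, hb₀⟩ := hG.exists_other hz o
  set β := u o with hβ
  have hsum0 : ∑ x, s x = 0 := by
    rw [Finset.sum_ite, Finset.sum_const, Finset.sum_const, Finset.filter_not, Finset.card_sdiff_of_subset (Finset.subset_univ _)]
    rw [show Finset.univ.filter (fun x => x ∈ O) = O by ext; simp, hOcard, Finset.card_univ, hG.card]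
    norm_num
  have husum : ∑ x, u x = 0 := by
    show ∑ x, ∑ y, M x y * s y = 0
    rw [Finset.sum_comm]
    simp only [← Finset.sum_mul, hcolsum, ← Finset.mul_sum, hsum0, mul_zero]
  have hin : ∀ x ∈ O, u x = β := by
    intro x hx
    obtain ⟨i, -, rfl⟩ := (mem_orbit_iff hz).1 (Set.mem_toFinset.1 hx)
    exact huzn i o
  have hout : ∀ x ∉ O, u x = u b₀ := by
    intro x hx
    obtain ⟨i, -, rfl⟩ := (mem_orbit_iff hz).1
      ((hG.two_orbits hz hb₀ x).resolve_left fun h => hx (Set.mem_toFinset.2 h))
    exact huzn i b₀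
  have hneg := even_symm_sum_zero u O β hOcard hG.card (u b₀) hin hout husum
  have hu : ∀ x, u x = β * s x := by
    intro x
    by_cases hx : x ∈ O
    · rw [hin x hx]; simp [s, hx]
    · rw [hout x hx, hneg]; simp [s, hx]
  have hoO : o ∈ O := Set.mem_toFinset.2 (MulAction.mem_orbit_self o)
  have hquad : β * β = k + b * β + c * (-1 - β) := by
    have h1 := congrArg (fun A : Matrix α α ℤ => ∑ y, A o y * s y) hMM
    have h2 : ∑ y, (M * M) o y * s y = β * β := by
      simp only [Matrix.mul_apply, Finset.sum_mul]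
      rw [Finset.sum_comm]
      simp only [mul_assoc, ← Finset.mul_sum]
      show ∑ x, M o x * u x = β * β
      simp only [hu]
      rw [Finset.sum_congr rfl fun x _ => (mul_left_comm (M o x) β (s x)), ← Finset.mul_sum]
    simp only [h2, Matrix.add_apply, Matrix.smul_apply, Matrix.sub_apply, J, Matrix.of_apply, smul_eq_mul,
      add_mul, mul_assoc, sub_mul, one_mul, Finset.sum_add_distrib, ← Finset.mul_sum, Finset.sum_sub_distrib,
      hsum0] at h1
    simp only [Matrix.one_apply, ite_mul, one_mul, zero_mul, Finset.sum_ite_eq, Finset.mem_univ, if_true,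
      show s o = 1 from if_pos hoO] at h1
    rw [h1]
    show _ = (k : ℤ) + b * u o + c * (-1 - u o)
    ring
  have hbound : ∃ t : ℕ, t ≤ k ∧ β = 2 * t - k := by
    refine ⟨((Finset.univ.filter fun y => cl G o y = v).filter fun y => y ∈ O).card,
      (Finset.card_filter_le _ _).trans (hrow o).le, ?_⟩
    have hk' : (k : ℤ) = ∑ y, M o y := (hrowsum o).symm
    rw [hk', Finset.filter_filter, Finset.card_filter]
    push_cast
    rw [Finset.mul_sum, ← Finset.sum_sub_distrib]
    refine Finset.sum_congr rfl fun y _ => ?_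
    show M o y * s y = _
    rw [hMapp]
    by_cases h1 : cl G o y = v <;> by_cases h2 : y ∈ O <;> simp [s, h1, h2]
  have hk' : k = 9 ∧ b = 4 ∧ c = 3 := by
    obtain ⟨t, ht, hβt⟩ := hbound
    rw [hβt] at hquad
    rcases hk with rfl | rfl | rfl <;> interval_cases c <;> interval_cases t <;> push_cast at hk2 hquad <;> omega
  obtain ⟨rfl, hb4, hc3⟩ := hk'
  rw [hb4, hc3] at hMM
  -- modulo five
  let f := (Int.castRingHom (ZMod 5)).mapMatrix (m := α)
  have hJJ : J * J = (22 : ℤ) • J := by
    ext x y; simp [J, Matrix.mul_apply, hG.card]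
  have hMJ : M * J = (9 : ℤ) • J := by
    ext x y; simp [J, Matrix.mul_apply, hrowsum]
  have hJM : J * M = (9 : ℤ) • J := by
    ext x y; simp [J, Matrix.mul_apply, hcolsum]
  have hsq : (M + (2 : ℤ) • 1 - (3 : ℤ) • J) * (M + (2 : ℤ) • 1 - (3 : ℤ) • J) =
      (5 : ℤ) • ((2 : ℤ) • 1 + M + (27 : ℤ) • J) := by
    simp only [add_mul, mul_add, sub_mul, mul_sub, smul_mul_assoc, mul_smul_comm, one_mul, mul_one,
      hMM, hMJ, hJM, hJJ, smul_smul]
    module
  have hnil : IsNilpotent (f (M + (2 : ℤ) • 1 - (3 : ℤ) • J)) := by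
    refine ⟨2, ?_⟩
    rw [pow_two, ← map_mul, hsq, map_zsmul]
    ext x y
    rw [Matrix.smul_apply, zsmul_eq_mul, show ((5 : ℤ) : ZMod 5) = 0 from by decide, zero_mul, Matrix.zero_apply]
  haveI : Fact (Nat.Prime 5) := ⟨by norm_num⟩
  have htr := (Matrix.isNilpotent_trace_of_isNilpotent hnil).eq_zero
  have htr' : Matrix.trace (f (M + (2 : ℤ) • 1 - (3 : ℤ) • J)) = ((-22 : ℤ) : ZMod 5) := by
    rw [show Matrix.trace (f (M + (2 : ℤ) • 1 - (3 : ℤ) • J)) =
      ((Matrix.trace (M + (2 : ℤ) • 1 - (3 : ℤ) • J) : ℤ) : ZMod 5) from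
        (AddMonoidHom.map_trace (Int.castRingHom (ZMod 5)).toAddMonoidHom _).symm]
    congr 1
    have h0 : Matrix.trace M = 0 := Finset.sum_eq_zero fun x _ => if_neg fun h => (hsymm x x h).2 rfl
    have h22 : Matrix.trace J = 22 := by simp [Matrix.trace, J, hG.card]
    rw [Matrix.trace_sub, Matrix.trace_add, Matrix.trace_smul, Matrix.trace_smul, h0, h22, Matrix.trace_one, hG.card]
    norm_num
  rw [htr'] at htr
  have h5 : (5 : ℤ) ∣ -22 := (ZMod.intCast_zmod_eq_zero_iff_dvd (-22) 5).1 htr
  norm_num at h5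

end CfsgLib.SylowNumbers.TwentyTwo
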