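import Cfsg.Agent.Lib.SylowNumbers.TwentyTwo.Commutant
import Cfsg.Agent.Lib.SylowNumbers.TwentyTwo.Rank3

/-!
If an element of order eleven is inverted, there are at most three orbitals.
-/

set_option autoImplicit false

namespace CfsgLib.SylowNumbers.TwentyTwo

open Equiv Subgroup MulAction Polynomial Module Matrix
open scoped Pointwise

variable {α : Type*} [Fintype α] [DecidableEq α] {G : Subgroup (Perm α)}

variable (G) in
/-- The permutation representation over the rationals. -/
def permRep : G →* Module.End ℚ (α → ℚ) where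
  toFun g := LinearMap.funLeft ℚ ℚ (fun x => g⁻¹ • x)
  map_one' := by
    refine LinearMap.ext fun f => funext fun x => ?_
    show f ((1 : G)⁻¹ • x) = f x
    rw [inv_one, one_smul]
  map_mul' g h := by
    refine LinearMap.ext fun f => funext fun x => ?_
    show f ((g * h)⁻¹ • x) = f (h⁻¹ • g⁻¹ • x)
    rw [_root_.mul_inv_rev, mul_smul]

omit [Fintype α] [DecidableEq α] in
theorem permRep_apply (g : G) (f : α → ℚ) (x : α) : permRep G g f x = f (g⁻¹ • x) := rfl

omit [DecidableEq α] in
theorem dot_permRep (g : G) (v u : α → ℚ) : permRep G g v ⬝ᵥ u = v ⬝ᵥ permRep G g⁻¹ u := by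
  show ∑ x, v (g⁻¹ • x) * u x = ∑ x, v x * u (g⁻¹⁻¹ • x)
  rw [← Equiv.sum_comp (MulAction.toPerm g)]
  simp

/-- Matrices constant on the orbitals. -/
def commutant (G : Subgroup (Perm α)) : Submodule ℚ (Matrix α α ℚ) where
  carrier := {M | ∀ (g : G) (x y : α), M (g • x) (g • y) = M x y}
  add_mem' {M N} hM hN g x y := by rw [Matrix.add_apply, Matrix.add_apply, hM, hN]
  zero_mem' g x y := rfl
  smul_mem' q M hM g x y := by rw [Matrix.smul_apply, Matrix.smul_apply, hM]

omit [DecidableEq α] in
theorem commutant_transpose {M : Matrix α α ℚ} (hM : M ∈ commutant G) : Mᵀ ∈ commutant G :=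
  fun g x y => hM g y x

omit [DecidableEq α] in
theorem mulVec_permRep {M : Matrix α α ℚ} (hM : M ∈ commutant G) (g : G) (v : α → ℚ) :
    M *ᵥ permRep G g v = permRep G g (M *ᵥ v) := by
  funext x
  show ∑ y, M x y * v (g⁻¹ • y) = ∑ y, M (g⁻¹ • x) y * v y
  rw [← Equiv.sum_comp (MulAction.toPerm g)]
  refine Finset.sum_congr rfl fun y _ => ?_
  rw [MulAction.toPerm_apply, inv_smul_smul]
  congr 1
  conv_lhs => rw [← smul_inv_smul g x]
  exact hM g _ y

variable (G) in
/-- A function on orbitals as a matrix. -/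
def orbMatrix : (OrbQ G → ℚ) →ₗ[ℚ] commutant G where
  toFun c := ⟨Matrix.of fun x y => c (cl G x y), fun g x y => congrArg c (cl_smul G g x y)⟩
  map_add' _ _ := rfl
  map_smul' _ _ := rfl

omit [DecidableEq α] in
theorem orbitals_le_of_injective {n : ℕ} (Ψ : commutant G →ₗ[ℚ] (Fin n → ℚ)) (hΨ : Function.Injective Ψ) :
    Nat.card (OrbQ G) ≤ n := by
  classical
  haveI : Fintype (OrbQ G) := Fintype.ofFinite _
  have hinj : Function.Injective (Ψ.comp (orbMatrix G)) := hΨ.comp fun c c' h => funext fun q => by
    induction q using Quotient.inductionOn' with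
    | h p => exact congrFun (congrFun (congrArg Subtype.val h : _) p.1) p.2
  have h := LinearMap.finrank_le_finrank_of_injective hinj
  rwa [Module.finrank_pi, Module.finrank_pi, Fintype.card_fin, ← Nat.card_eq_fintype_card] at h

variable (hG : Hyp G)

include hG

theorem Hyp.orbitals_le_of_inverting {z w : G} (hz : orderOf z = 11) (hw : w * z * w⁻¹ = z⁻¹) :
    Nat.card (OrbQ G) ≤ 3 := by
  classical
  haveI := hG.trans
  obtain ⟨o⟩ : Nonempty α := Fintype.card_pos_iff.1 (by rw [hG.card]; norm_num)
  obtain ⟨b, hb⟩ := hG.exists_other hz o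
  set O : Finset α := (orbit (Subgroup.zpowers z) o).toFinset with hO
  have hOcard : O.card = 11 := by rw [hO, ← Set.ncard_eq_toFinset_card', hG.orbit_card hz]
  have hoO : o ∈ O := Set.mem_toFinset.2 (MulAction.mem_orbit_self o)
  have hbO : b ∉ O := fun h => hb (Set.mem_toFinset.1 h)
  let s : α → ℚ := fun x => if x ∈ O then 1 else -1
  let one : α → ℚ := fun _ => 1
  have hπone : ∀ g, permRep G g one = one := fun g => rfl
  have hOz : ∀ (i : ℕ) x, (z ^ i) • x ∈ O ↔ x ∈ O := by
    intro i x
    have e : orbit (Subgroup.zpowers z) ((z ^ i) • x) = orbit (Subgroup.zpowers z) x :=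
      MulAction.orbit_eq_iff.2 (MulAction.mem_orbit x
        (⟨z ^ i, Subgroup.pow_mem _ (Subgroup.mem_zpowers z) i⟩ : Subgroup.zpowers z))
    rw [Set.mem_toFinset, Set.mem_toFinset, ← MulAction.orbit_eq_iff, ← MulAction.orbit_eq_iff, e]
  have hsum : ∑ x, s x = 0 := by
    rw [← Finset.sum_add_sum_compl O, Finset.sum_congr rfl (g := fun _ => (1 : ℚ)) fun x hx => if_pos hx,
      Finset.sum_congr (s₁ := Oᶜ) rfl (g := fun _ => (-1 : ℚ)) fun x hx => if_neg (Finset.mem_compl.1 hx),
      Finset.sum_const, Finset.sum_const, Finset.card_compl, hOcard, hG.card]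
    norm_num
  -- functions invariant under `z`
  have hzfix : ∀ f : α → ℚ, (∀ x, f (z • x) = f x) →
      f = ((f o + f b) / 2) • one + ((f o - f b) / 2) • s := by
    intro f hf
    have hn : ∀ (i : ℕ) x, f ((z ^ i) • x) = f x := by
      intro i
      induction i with
      | zero => simp
      | succ i ih => intro x; rw [pow_succ', mul_smul, hf, ih]
    funext x
    simp only [Pi.add_apply, Pi.smul_apply, smul_eq_mul, one, s, mul_one]
    by_cases hx : x ∈ O
    · obtain ⟨i, -, rfl⟩ := (mem_orbit_iff hz).1 (Set.mem_toFinset.1 hx)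
      rw [hn, if_pos hx]; ring
    · obtain ⟨i, -, rfl⟩ := (mem_orbit_iff hz).1
        ((hG.two_orbits hz hb x).resolve_left fun h => hx (Set.mem_toFinset.2 h))
      rw [hn, if_neg hx]; ring
  -- the module generated by the constant function and `s`
  set U : Submodule ℚ (α → ℚ) := Submodule.span ℚ (insert one (Set.range fun g => permRep G g s)) with hU
  have h1U : one ∈ U := Submodule.subset_span (Set.mem_insert _ _)
  have hgU : ∀ g, permRep G g s ∈ U := fun g => Submodule.subset_span (Set.mem_insert_of_mem _ ⟨g, rfl⟩)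
  have hsU : s ∈ U := by
    have := hgU 1
    rwa [map_one, Module.End.one_apply] at this
  have hUπ : ∀ g, ∀ u ∈ U, permRep G g u ∈ U := by
    intro g u hu
    induction hu using Submodule.span_induction with
    | mem u hu =>
      rcases hu with rfl | ⟨h, rfl⟩
      · rw [hπone]; exact h1U
      · show permRep G g (permRep G h s) ∈ U
        rw [← Module.End.mul_apply, ← map_mul]; exact hgU _
    | zero => rw [map_zero]; exact zero_mem _
    | add u v _ _ hu hv => rw [map_add]; exact add_mem hu hv
    | smul q u _ hu => rw [map_smul]; exact Submodule.smul_mem _ q hu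
  let Φ : (α → ℚ) →ₗ[ℚ] U →ₗ[ℚ] ℚ := LinearMap.mk₂ ℚ (fun v (u : U) => v ⬝ᵥ (u : α → ℚ))
    (fun v v' u => add_dotProduct v v' _) (fun q v u => smul_dotProduct q v _)
    (fun v u u' => dotProduct_add v _ _) (fun q v u => dotProduct_smul q v _)
  set W : Submodule ℚ (α → ℚ) := LinearMap.ker Φ with hW
  have hWmem : ∀ v, v ∈ W ↔ ∀ u ∈ U, v ⬝ᵥ u = 0 := by
    intro v
    rw [hW, LinearMap.mem_ker]
    exact ⟨fun h u hu => LinearMap.congr_fun h ⟨u, hu⟩, fun h => LinearMap.ext fun u => h u u.2⟩
  have hdisj : Disjoint U W := by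
    rw [Submodule.disjoint_def]
    intro v hv hvW
    exact dotProduct_self_eq_zero.1 ((hWmem v).1 hvW v hv)
  have hsum22 : finrank ℚ U + finrank ℚ W = 22 := by
    have h1 := LinearMap.finrank_range_add_finrank_ker Φ
    have h2 := Submodule.finrank_le (LinearMap.range Φ)
    have h3 := Submodule.finrank_add_finrank_le_of_disjoint hdisj
    rw [Module.finrank_pi, hG.card] at h1 h3
    have h4 : finrank ℚ (U →ₗ[ℚ] ℚ) = finrank ℚ U := Subspace.dual_finrank_eq
    rw [← hW] at h1
    omega
  have htop : U ⊔ W = ⊤ := by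
    apply Submodule.eq_top_of_disjoint _ _ (by rw [hsum22, Module.finrank_pi, hG.card]) hdisj
  -- at least three dimensions
  have hU3 : 3 ≤ finrank ℚ U := by
    by_contra! hlt
    let S : Submodule ℚ (α → ℚ) := Submodule.span ℚ {one, s}
    have hSU : S ≤ U := Submodule.span_le.2 (by rintro x (rfl | rfl) <;> assumption)
    have hli : LinearIndependent ℚ ![one, s] := by
      rw [LinearIndependent.pair_iff]
      intro p q h
      have h1 := congrFun h o
      have h2 := congrFun h b
      simp [one, s, hoO, hbO] at h1 h2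
      constructor <;> linarith
    have hS2 : finrank ℚ S = 2 := by
      have := finrank_span_eq_card hli
      rwa [Matrix.range_cons, Matrix.range_cons, Matrix.range_empty, Set.union_empty, Set.singleton_union,
        Fintype.card_fin] at this
    have hSe : S = U := Submodule.eq_of_le_of_finrank_le hSU (by omega)
    have hblock : IsBlock G (O : Set α) := by
      have hconst : ∀ (g : G) x y, (x ∈ O ↔ y ∈ O) → (g • x ∈ O ↔ g • y ∈ O) := by
        intro g x y hxy
        have hm : permRep G g⁻¹ s ∈ S := hSe ▸ hgU g⁻¹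
        obtain ⟨p, q, hpq⟩ := Submodule.mem_span_pair.1 hm
        have hx := congrFun hpq x
        have hy := congrFun hpq y
        simp only [Pi.add_apply, Pi.smul_apply, smul_eq_mul, one, s, permRep_apply, inv_inv] at hx hy
        have : (if g • x ∈ O then (1 : ℚ) else -1) = if g • y ∈ O then 1 else -1 := by
          rw [← hx, ← hy]
          by_cases h : x ∈ O
          · rw [if_pos h, if_pos (hxy.1 h)]
          · rw [if_neg h, if_neg (fun e => h (hxy.2 e))]
        split_ifs at this with h1 h2 h2 <;> first | (simp [h1, h2]; done) | exact absurd this (by norm_num)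
      rw [isBlock_iff_smul_eq_or_disjoint]
      intro g
      by_cases h : g • o ∈ O
      · left
        refine Set.eq_of_subset_of_ncard_le ?_ (by
          rw [← Set.image_smul, Set.ncard_image_of_injective _ (MulAction.injective g)])
        rintro _ ⟨x, hx, rfl⟩
        exact (hconst g x o (iff_of_true hx hoO)).2 h
      · right
        rw [Set.disjoint_left]
        rintro _ ⟨x, hx, rfl⟩ hgx
        exact h ((hconst g x o (iff_of_true hx hoO)).1 hgx)
    rcases hG.primitive.isTrivialBlock_of_isBlock hblock with h | h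
    · have := (Set.ncard_le_one (Set.toFinite _)).2 fun x hx y hy => h hx hy
      rw [Set.ncard_coe_finset, hOcard] at this
      norm_num at this
    · exact hbO (Finset.mem_coe.1 (h ▸ Set.mem_univ b))
  -- the representation on the complement
  have hWπ : ∀ g, ∀ v ∈ W, permRep G g v ∈ W := by
    intro g v hv
    rw [hWmem] at hv ⊢
    intro u hu
    rw [dot_permRep]
    exact hv _ (hUπ _ u hu)
  let ρ : G →* Module.End ℚ W :=
    { toFun := fun g => (permRep G g).restrict (hWπ g)
      map_one' := LinearMap.ext fun v => Subtype.ext (by rw [LinearMap.restrict_coe_apply, map_one]; rfl)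
      map_mul' := fun g h => LinearMap.ext fun v => Subtype.ext (by
        rw [LinearMap.restrict_coe_apply, map_mul]; rfl) }
  haveI : Fact (Nat.Prime 11) := ⟨by norm_num⟩
  have hΦ11 : aeval (ρ z) (cyclotomic 11 ℚ) = 0 := by
    refine LinearMap.ext fun v => Subtype.ext ?_
    rw [cyclotomic_prime, map_sum, LinearMap.sum_apply]
    simp only [map_pow, aeval_X]
    set u : α → ℚ := ((∑ i ∈ Finset.range 11, (ρ z ^ i) v : W) : α → ℚ) with hu
    show u = 0
    have huW : u ∈ W := (∑ i ∈ Finset.range 11, (ρ z ^ i) v : W).2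
    have hval : u = ∑ i ∈ Finset.range 11, permRep G (z ^ i) (v : α → ℚ) := by
      rw [hu, AddSubmonoidClass.coe_finsetSum]
      refine Finset.sum_congr rfl fun i _ => ?_
      rw [← map_pow]; rfl
    have hinv : ∀ x, u (z • x) = u x := by
      intro x
      have h1 : permRep G z⁻¹ u = u := by
        conv_lhs => rw [hval, map_sum]
        rw [hval]
        simp only [← Module.End.mul_apply, ← map_mul]
        rw [Finset.sum_range_succ' _ 10, Finset.sum_range_succ _ 10]
        congr 1
        · refine Finset.sum_congr rfl fun i _ => ?_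
          rw [pow_succ', inv_mul_cancel_left]
        · rw [pow_zero, mul_one]
          congr 2
          rw [eq_comm, eq_inv_iff_mul_eq_one, ← pow_succ, show 10 + 1 = orderOf z by rw [hz]]
          exact pow_orderOf_eq_one z
      have h2 : u ((z⁻¹)⁻¹ • x) = u x := congrFun h1 x
      have e : (z⁻¹)⁻¹ = z := by group
      exact (congrArg (fun g : G => u (g • x)) e).symm.trans h2
    exact Submodule.disjoint_def.1 hdisj u (by
      rw [hzfix u hinv]; exact add_mem (Submodule.smul_mem _ _ h1U) (Submodule.smul_mem _ _ hsU)) huW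
  -- action of the commutant
  have key : ∀ M ∈ commutant G, (∀ x, (M *ᵥ one) x = (M *ᵥ one) o) ∧
      M *ᵥ s = (M *ᵥ s) o • s ∧ ∀ u ∈ U, M *ᵥ u ∈ U := by
    intro M hM
    have h1 : ∀ x, (M *ᵥ one) x = (M *ᵥ one) o := by
      intro x
      obtain ⟨g, rfl⟩ := hG.trans.exists_smul_eq o x
      conv_lhs => rw [← hπone g, mulVec_permRep hM, permRep_apply, inv_smul_smul]
    have hcol : ∀ y, ∑ x, M x y = ∑ x, M x o := by
      intro y
      obtain ⟨g, rfl⟩ := hG.trans.exists_smul_eq o y
      rw [← Equiv.sum_comp (MulAction.toPerm g)]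
      exact Finset.sum_congr rfl fun x _ => hM g x o
    have hsinv : ∀ x, (M *ᵥ s) (z • x) = (M *ᵥ s) x := by
      intro x
      have hzs : permRep G z⁻¹ s = s := funext fun y => by
        rw [permRep_apply, inv_inv]
        exact if_congr (by simpa using hOz 1 y) rfl rfl
      have := congrFun (mulVec_permRep hM z⁻¹ s) x
      rw [hzs, permRep_apply, inv_inv] at this
      exact this.symm
    have hzero : ∑ x, (M *ᵥ s) x = 0 := by
      show ∑ x, ∑ y, M x y * s y = 0
      rw [Finset.sum_comm]
      simp only [← Finset.sum_mul, hcol, ← Finset.mul_sum, hsum, mul_zero]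
    have hdec := hzfix _ hsinv
    have hneg : (M *ᵥ s) b = -(M *ᵥ s) o := by
      have h := congrArg (fun f : α → ℚ => ∑ x, f x) hdec
      simp only [hzero, Pi.add_apply, Pi.smul_apply, smul_eq_mul, Finset.sum_add_distrib, ← Finset.mul_sum, hsum,
        one, Finset.sum_const, Finset.card_univ, hG.card, nsmul_eq_mul] at h
      push_cast at h
      linarith
    have h2 : M *ᵥ s = (M *ᵥ s) o • s := by
      conv_lhs => rw [hdec]
      rw [hneg]
      module
    refine ⟨h1, h2, fun u hu => ?_⟩
    induction hu using Submodule.span_induction with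
    | mem u hu =>
      rcases hu with rfl | ⟨g, rfl⟩
      · rw [show M *ᵥ one = (M *ᵥ one) o • one from funext fun x => by rw [h1 x]; simp [one]]
        exact Submodule.smul_mem _ _ h1U
      · show M *ᵥ permRep G g s ∈ U
        rw [mulVec_permRep hM, h2]
        exact hUπ g _ (Submodule.smul_mem _ _ hsU)
    | zero => rw [Matrix.mulVec_zero]; exact zero_mem _
    | add u v _ _ hu hv => rw [Matrix.mulVec_add]; exact add_mem hu hv
    | smul q u _ hu => rw [Matrix.mulVec_smul]; exact Submodule.smul_mem _ q hu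
  have keyW : ∀ M ∈ commutant G, ∀ v ∈ W, M *ᵥ v ∈ W := by
    intro M hM v hv
    rw [hWmem] at hv ⊢
    intro u hu
    rw [dotProduct_comm, dotProduct_mulVec, ← Matrix.mulVec_transpose, dotProduct_comm]
    exact hv _ ((key _ (commutant_transpose hM)).2.2 u hu)
  -- vanishing on the three parts
  have vanish : ∀ M ∈ commutant G, (M *ᵥ one) o = 0 → (M *ᵥ s) o = 0 → (∀ v ∈ W, M *ᵥ v = 0) → M = 0 := by
    intro M hM h1 h2 h3
    obtain ⟨k1, k2, -⟩ := key M hM
    have hUz : ∀ u ∈ U, M *ᵥ u = 0 := by
      intro u hu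
      induction hu using Submodule.span_induction with
      | mem u hu =>
        rcases hu with rfl | ⟨g, rfl⟩
        · exact funext fun x => (k1 x).trans h1
        · show M *ᵥ permRep G g s = 0
          rw [mulVec_permRep hM, k2, h2, zero_smul, map_zero]
      | zero => rw [Matrix.mulVec_zero]
      | add u v _ _ hu hv => rw [Matrix.mulVec_add, hu, hv, add_zero]
      | smul q u _ hu => rw [Matrix.mulVec_smul, hu, smul_zero]
    have hall : ∀ v, M *ᵥ v = 0 := by
      intro v
      have : v ∈ U ⊔ W := htop ▸ Submodule.mem_top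
      obtain ⟨u, hu, w, hw, rfl⟩ := Submodule.mem_sup.1 this
      rw [Matrix.mulVec_add, hUz u hu, h3 w hw, add_zero]
    ext x y
    have := congrFun (hall (Pi.single y 1)) x
    simpa using this
  let ev : (α → ℚ) → α → commutant G →ₗ[ℚ] ℚ := fun v x =>
    { toFun := fun M => ((M : Matrix α α ℚ) *ᵥ v) x
      map_add' := fun M N => by rw [Submodule.coe_add, Matrix.add_mulVec]; rfl
      map_smul' := fun q M => by rw [Submodule.coe_smul, Matrix.smul_mulVec]; rfl }
  rcases finrank_eq_ten (ρ z) hΦ11 (show finrank ℚ W < 20 by omega) with h0 | h10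
  · -- no complement
    refine (orbitals_le_of_injective (n := 2) (LinearMap.pi ![ev one o, ev s o]) ?_).trans (by norm_num)
    rw [← LinearMap.ker_eq_bot, LinearMap.ker_eq_bot']
    intro M hM
    refine Subtype.ext (vanish M M.2 (congrFun hM 0) (congrFun hM 1) fun v hv => ?_)
    rw [Submodule.finrank_eq_zero] at h0
    rw [h0, Submodule.mem_bot] at hv
    rw [hv, Matrix.mulVec_zero]
  -- faithfulness
  have hρ : Function.Injective ρ := by
    rw [injective_iff_map_eq_one]
    intro g hg
    by_contra hg1
    let N : Subgroup G :=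
      { carrier := {g | ρ g = 1}
        one_mem' := map_one ρ
        mul_mem' := fun {a b} (ha : ρ a = 1) (hb : ρ b = 1) => show ρ (a * b) = 1 by rw [map_mul, ha, hb, one_mul]
        inv_mem' := fun {a} (ha : ρ a = 1) => show ρ a⁻¹ = 1 by
          rw [← mul_one (ρ a⁻¹), ← ha, ← map_mul, inv_mul_cancel, map_one, ha] }
    haveI hN : N.Normal := ⟨fun n (hn : ρ n = 1) h => show ρ (h * n * h⁻¹) = 1 by
      rw [map_mul, map_mul, hn, mul_one, ← map_mul, mul_inv_cancel, map_one]⟩
    haveI := hG.primitive
    have hne : MulAction.fixedPoints N α ≠ Set.univ := by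
      intro e
      refine hg1 (Subtype.ext (Equiv.ext fun x => ?_))
      exact (show x ∈ MulAction.fixedPoints N α from e ▸ Set.mem_univ x) ⟨g, hg⟩
    haveI : IsPretransitive N α := IsQuasiPreprimitive.isPretransitive_of_normal hne
    have h11 : 11 ∣ Nat.card N := by
      refine dvd_trans ?_ (Subgroup.card_quotient_dvd_card (stabilizer N o))
      rw [← Subgroup.index_eq_card, MulAction.index_stabilizer_of_transitive, Nat.card_eq_fintype_card, hG.card]
      norm_num
    obtain ⟨y, hy⟩ := exists_prime_orderOf_dvd_card' 11 h11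
    obtain ⟨S, hS⟩ := hG.zpowers_sylow hz
    obtain ⟨S', hS'⟩ := hG.zpowers_sylow (z := (y : G)) (by rw [Subgroup.orderOf_coe, hy])
    obtain ⟨h, hh⟩ := MulAction.exists_smul_eq G S' S
    have hzN : z ∈ N := by
      have : z ∈ ((h • S' : Sylow 11 G) : Subgroup G) := by rw [hh, hS]; exact Subgroup.mem_zpowers z
      rw [Sylow.coe_subgroup_smul, hS'] at this
      obtain ⟨c, hc, hcz⟩ := this
      obtain ⟨i, rfl⟩ := Subgroup.mem_zpowers_iff.1 hc
      rw [← hcz]
      exact hN.conj_mem _ (Subgroup.zpow_mem _ y.2 i) h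
    have h11' : (11 : Module.End ℚ W) = 0 := by
      have := hΦ11
      rw [cyclotomic_prime, map_sum, show ρ z = 1 from hzN] at this
      simpa using this
    have : Nontrivial W := Module.finrank_pos_iff.1 (by rw [h10]; norm_num)
    obtain ⟨v, hv⟩ := exists_ne (0 : W)
    have := LinearMap.congr_fun h11' v
    rw [Module.End.ofNat_apply, LinearMap.zero_apply, smul_eq_zero] at this
    rcases this with h | h
    · norm_num at h
    · exact hv h
  have : Nontrivial W := Module.finrank_pos_iff.1 (by rw [h10]; norm_num)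
  obtain ⟨v, hv⟩ := exists_ne (0 : W)
  obtain ⟨p, hp⟩ : ∃ p, (v : α → ℚ) p ≠ 0 := by
    by_contra! h
    exact hv (Subtype.ext (funext h))
  refine orbitals_le_of_injective (n := 3) (LinearMap.pi ![ev one o, ev s o, ev v p]) ?_
  rw [← LinearMap.ker_eq_bot, LinearMap.ker_eq_bot']
  intro M hM
  refine Subtype.ext (vanish M M.2 (congrFun hM 0) (congrFun hM 1) fun u hu => ?_)
  let f : Module.End ℚ W := (Matrix.mulVecLin (M : Matrix α α ℚ)).restrict (keyW M M.2)
  obtain ⟨q, hq⟩ := hG.scalar_commutant ρ hρ h10 hz hw hΦ11 f fun g => LinearMap.ext fun u => Subtype.ext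
    (mulVec_permRep M.2 g u.1).symm
  have happ : ∀ u : W, (M : Matrix α α ℚ) *ᵥ (u : α → ℚ) = q • (u : α → ℚ) := fun u =>
    congrArg Subtype.val (LinearMap.congr_fun hq u)
  have h0 : q * (v : α → ℚ) p = 0 := by
    have := congrFun hM 2
    have h' : ((M : Matrix α α ℚ) *ᵥ (v : α → ℚ)) p = 0 := this
    rwa [happ, Pi.smul_apply, smul_eq_mul] at h'
  rw [happ ⟨u, hu⟩, (mul_eq_zero.1 h0).resolve_right hp, zero_smul]

end CfsgLib.SylowNumbers.TwentyTwo
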