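import Mathlib
import Cfsg.Agent.S0713
import Cfsg.Agent.Lib.SylowNumbers.TwoPrimeAddOne
import Cfsg.Agent.Lib.Transfer.Frobenius

/-!
Groups with 22 Sylow `3`-subgroups: the minimal configuration as a primitive group of degree 22 and
the structure of its Sylow `11`-subgroups.
-/

set_option autoImplicit false

namespace CfsgLib.SylowNumbers.TwentyTwo

open Equiv Subgroup MulAction
open scoped Pointwise

variable {α : Type*} [Fintype α] [DecidableEq α] (G : Subgroup (Perm α))

/-- The minimal configuration. -/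
structure Hyp : Prop where
  card : Fintype.card α = 22
  trans : IsPretransitive G α
  top_of_index : ∀ N : Subgroup G, N.Normal → ¬ 3 ∣ N.index → N = ⊤
  pcore : ∀ o : α, ∃ P : Sylow 3 G, stabilizer G o = normalizer ((P : Subgroup G) : Set G) ∧
    ∀ a : α, (∀ u ∈ (P : Subgroup G), u • a = a) → a = o

variable {G} (hG : Hyp G)

include hG

theorem Hyp.sign_eq_one (g : G) : Perm.sign (g : Perm α) = 1 := by
  let φ : G →* ℤˣ := Perm.sign.comp G.subtype
  have h : φ.ker = ⊤ := by
    refine hG.top_of_index _ inferInstance fun h => ?_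
    rw [Subgroup.index_ker] at h
    have h2 : Nat.card φ.range ≤ 2 :=
      (Nat.card_le_card_of_injective _ Subtype.val_injective).trans (by
        rw [Nat.card_eq_fintype_card, Fintype.card_units_int])
    have h1 : 0 < Nat.card φ.range := Nat.card_pos
    have := Nat.le_of_dvd h1 h
    omega
  exact MonoidHom.mem_ker.1 (h ▸ Subgroup.mem_top g : g ∈ φ.ker)

theorem Hyp.primitive : IsPreprimitive G α := by
  haveI := hG.trans
  refine ⟨fun {B} hB => ?_⟩
  rcases B.eq_empty_or_nonempty with rfl | hne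
  · exact Or.inl Set.subsingleton_empty
  have hmul := hB.ncard_block_mul_ncard_orbit_eq hne
  rw [Nat.card_eq_fintype_card, hG.card] at hmul
  have hd : B.ncard ∈ (22 : ℕ).divisors := Nat.mem_divisors.2 ⟨Dvd.intro _ hmul, by norm_num⟩
  have : B.ncard = 1 ∨ B.ncard = 2 ∨ B.ncard = 11 ∨ B.ncard = 22 := by
    rw [show (22 : ℕ).divisors = {1, 2, 11, 22} from by decide] at hd
    simpa using hd
  rcases this with h | h | h | h
  · exact Or.inl ((Set.ncard_le_one (Set.toFinite B)).1 h.le)
  · exfalso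
    obtain ⟨o, b, hob, rfl⟩ := Set.ncard_eq_two.1 h
    obtain ⟨P, hP, huniq⟩ := hG.pcore o
    refine hob (huniq b fun u hu => ?_).symm
    have hu' : u • o = o := by
      have : u ∈ stabilizer G o := hP ▸ Subgroup.le_normalizer hu
      exact this
    have hBu : u • ({o, b} : Set α) = {o, b} :=
      hB.smul_eq_of_nonempty ⟨o, ⟨o, Set.mem_insert _ _, hu'⟩, Set.mem_insert _ _⟩
    have hmem : u • b ∈ ({o, b} : Set α) := hBu ▸ Set.smul_mem_smul_set (by simp)
    rcases hmem with h' | h'
    · exact absurd (smul_left_cancel u (h'.trans hu'.symm)) (Ne.symm hob)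
    · exact h'
  · exfalso
    have hidx : (stabilizer G B).index = 2 := by
      rw [MulAction.index_stabilizer]
      rw [h] at hmul
      change 11 * (orbit G B).ncard = 22 at hmul
      omega
    have hn := Subgroup.normal_of_index_eq_two hidx
    have := hG.top_of_index _ hn (by rw [hidx]; norm_num)
    rw [this, Subgroup.index_top] at hidx
    omega
  · refine Or.inr (Set.eq_of_subset_of_ncard_le (Set.subset_univ B) ?_)
    rw [Set.ncard_univ, Nat.card_eq_fintype_card, hG.card, h]

theorem Hyp.not_alternating : ¬ alternatingGroup α ≤ G := by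
  intro hle
  classical
  obtain ⟨o⟩ : Nonempty α := Fintype.card_pos_iff.1 (by rw [hG.card]; norm_num)
  obtain ⟨P, hP, -⟩ := hG.pcore o
  have hcard : (Finset.univ.erase o).card = 21 := by
    rw [Finset.card_erase_of_mem (Finset.mem_univ o), Finset.card_univ, hG.card]
  obtain ⟨S, hS, hS4⟩ := Finset.exists_subset_card_eq (show 4 ≤ (Finset.univ.erase o).card by omega)
  obtain ⟨a, ha⟩ := Finset.card_pos.1 (show 0 < S.card by omega)
  obtain ⟨b, hb⟩ := Finset.card_pos.1 (show 0 < (S.erase a).card by rw [Finset.card_erase_of_mem ha]; omega)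
  obtain ⟨c, hc⟩ := Finset.card_pos.1 (show 0 < ((S.erase a).erase b).card by
    rw [Finset.card_erase_of_mem hb, Finset.card_erase_of_mem ha]; omega)
  obtain ⟨d, hd⟩ := Finset.card_pos.1 (show 0 < (((S.erase a).erase b).erase c).card by
    rw [Finset.card_erase_of_mem hc, Finset.card_erase_of_mem hb, Finset.card_erase_of_mem ha]; omega)
  simp only [Finset.mem_erase] at hb hc hd
  have hne : ∀ x ∈ S, o ≠ x := fun x hx => (Finset.mem_erase.1 (hS hx)).1.symm
  have hoa := hne a ha
  have hob := hne b hb.2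
  have hoc := hne c hc.2.2
  have hod := hne d hd.2.2.2
  have key : ∀ x y z : α, x ≠ y → x ≠ z → y ≠ z → o ≠ x → o ≠ y → o ≠ z →
      ∃ g ∈ (P : Subgroup G), (g : Perm α) = swap x y * swap x z := by
    intro x y z hxy hxz hyz hox hoy hoz
    have h3 : (swap x y * swap x z).IsThreeCycle := Perm.isThreeCycle_swap_mul_swap_same hxy hxz hyz
    have hmem : swap x y * swap x z ∈ G := hle h3.mem_alternatingGroup
    refine ⟨⟨_, hmem⟩, ?_, rfl⟩
    have hst : (⟨_, hmem⟩ : G) ∈ stabilizer G o := by
      show swap x y (swap x z o) = o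
      rw [swap_apply_of_ne_of_ne hox hoz, swap_apply_of_ne_of_ne hox hoy]
    rw [hP] at hst
    have hord : orderOf (⟨_, hmem⟩ : G) = 3 := by
      rw [Subgroup.orderOf_mk]; exact h3.orderOf
    have hz : IsPGroup 3 (Subgroup.zpowers (⟨_, hmem⟩ : G)) :=
      IsPGroup.of_card (n := 1) (by rw [Nat.card_zpowers, hord, pow_one])
    have h4 := P.2.inf_normalizer_sylow P
    have h5 := hz.inf_normalizer_sylow P
    have h6 : Subgroup.zpowers (⟨_, hmem⟩ : G) ⊓ normalizer ((P : Subgroup G) : Set G) =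
        Subgroup.zpowers (⟨_, hmem⟩ : G) := inf_eq_left.2 (Subgroup.zpowers_le.2 hst)
    exact ((h6.symm.trans h5).le (Subgroup.mem_zpowers _)).2
  obtain ⟨g, hg, hgv⟩ := key a b c (Ne.symm hb.1) (Ne.symm hc.2.1) (Ne.symm hc.1) hoa hob hoc
  obtain ⟨g', hg', hgv'⟩ := key a b d (Ne.symm hb.1) (Ne.symm hd.2.2.1) (Ne.symm hd.2.1) hoa hob hod
  obtain ⟨k, hk⟩ := IsPGroup.iff_orderOf.1 P.2 ⟨g * g', mul_mem hg hg'⟩
  rw [Subgroup.orderOf_mk, ← Subgroup.orderOf_coe, Subgroup.coe_mul, hgv, hgv'] at hk
  have hac : a ≠ c := Ne.symm hc.2.1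
  have had : a ≠ d := Ne.symm hd.2.2.1
  have hab : a ≠ b := Ne.symm hb.1
  have hbc : b ≠ c := Ne.symm hc.1
  have hbd : b ≠ d := Ne.symm hd.2.1
  have hcd : c ≠ d := Ne.symm hd.1
  set σ := swap a b * swap a c * (swap a b * swap a d) with hσd
  have hsq : σ = swap b c * swap a d := by
    rw [hσd, ← mul_assoc, mul_assoc (swap a b) (swap a c) (swap a b)]
    congr 1
    rw [swap_comm b c]
    have := Equiv.mul_swap_eq_swap_mul (swap a b) a c
    rw [swap_apply_left, swap_apply_of_ne_of_ne (Ne.symm hac) (Ne.symm hbc)] at this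
    rw [← mul_assoc, this, mul_assoc, swap_mul_self, mul_one, swap_comm c b]
  have hdisj : Perm.Disjoint (swap b c) (swap a d) := fun x => by
    by_cases hxb : x = b
    · right; subst hxb; exact swap_apply_of_ne_of_ne (Ne.symm hab) hbd
    by_cases hxc : x = c
    · right; subst hxc; exact swap_apply_of_ne_of_ne (Ne.symm hac) hcd
    left; exact swap_apply_of_ne_of_ne hxb hxc
  have h2 : σ ^ 2 = 1 := by
    rw [hsq, hdisj.commute.mul_pow, pow_two, pow_two, swap_mul_self, swap_mul_self, one_mul]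
  have h1 : σ ≠ 1 := by
    intro h
    have := Equiv.congr_fun h a
    rw [hsq, Perm.mul_apply, swap_apply_left, swap_apply_of_ne_of_ne (Ne.symm hbd) (Ne.symm hcd)] at this
    exact had this.symm
  rw [orderOf_eq_prime h2 h1] at hk
  rcases k with _ | k
  · norm_num at hk
  · have : 3 ∣ 2 := hk ▸ dvd_pow_self 3 (Nat.succ_ne_zero k)
    norm_num at this

/-- An element of order eleven moves every point. -/
theorem Hyp.eleven_no_fixed (y : G) (hy : orderOf y = 11) (o : α) : y • o ≠ o := by
  intro ho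
  have ho' : orderOf (y : Perm α) = 11 := by rw [Subgroup.orderOf_coe, hy]
  haveI : Fact (Nat.Prime 11) := ⟨by norm_num⟩
  obtain ⟨n, hn⟩ := Perm.cycleType_prime_order (σ := (y : Perm α)) (by rw [ho']; norm_num)
  rw [ho'] at hn
  have hsum : (y : Perm α).support.card = (n + 1) * 11 := by
    rw [← Perm.sum_cycleType, hn, Multiset.sum_replicate, smul_eq_mul]
  have hle : (y : Perm α).support.card ≤ 21 := by
    refine (Finset.card_le_card (fun x hx => Finset.mem_erase.2 ⟨?_, Finset.mem_univ x⟩)).trans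
      (le_of_eq (b := 21) (show (Finset.univ.erase o).card = 21 by
        rw [Finset.card_erase_of_mem (Finset.mem_univ o), Finset.card_univ, hG.card]))
    rintro rfl
    exact Perm.mem_support.1 hx ho
  have hn0 : n = 0 := by omega
  subst hn0
  have hcyc : (y : Perm α).IsCycle := Perm.card_cycleType_eq_one.1 (by rw [hn]; simp)
  exact hG.not_alternating (Cfsg.Agent.S0713.result G hG.primitive (p := 11) (by norm_num)
    (by rw [hG.card]; norm_num) (by rw [hG.card]; norm_num) hcyc (by rw [hsum]) y.2)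

theorem Hyp.not_dvd_stabilizer (o : α) : ¬ 11 ∣ Nat.card (stabilizer G o) := by
  haveI : Fact (Nat.Prime 11) := ⟨by norm_num⟩
  intro h
  obtain ⟨⟨y, hy⟩, hyo⟩ := exists_prime_orderOf_dvd_card' 11 h
  rw [Subgroup.orderOf_mk] at hyo
  exact hG.eleven_no_fixed y hyo o hy

theorem Hyp.card_eq (o : α) : Nat.card G = 22 * Nat.card (stabilizer G o) := by
  haveI := hG.trans
  rw [← Subgroup.card_mul_index (stabilizer G o), MulAction.index_stabilizer_of_transitive,
    Nat.card_eq_fintype_card (α := α), hG.card, mul_comm]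

theorem Hyp.exists_eleven : ∃ z : G, orderOf z = 11 := by
  haveI : Fact (Nat.Prime 11) := ⟨by norm_num⟩
  obtain ⟨o⟩ : Nonempty α := Fintype.card_pos_iff.1 (by rw [hG.card]; norm_num)
  exact exists_prime_orderOf_dvd_card' 11 (by rw [hG.card_eq o]; exact dvd_mul_of_dvd_left (by norm_num) _)

theorem Hyp.zpowers_sylow {z : G} (hz : orderOf z = 11) :
    ∃ S : Sylow 11 G, (S : Subgroup G) = Subgroup.zpowers z := by
  haveI : Fact (Nat.Prime 11) := ⟨by norm_num⟩
  obtain ⟨o⟩ : Nonempty α := Fintype.card_pos_iff.1 (by rw [hG.card]; norm_num)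
  refine ⟨Sylow.ofCard (Subgroup.zpowers z) ?_, rfl⟩
  rw [Nat.card_zpowers, hz, hG.card_eq o, Nat.factorization_mul (by norm_num) Nat.card_pos.ne', Finsupp.add_apply,
    Nat.factorization_eq_zero_of_not_dvd (hG.not_dvd_stabilizer o), add_zero,
    show (22 : ℕ) = 2 * 11 from rfl, Nat.factorization_mul (by norm_num) (by norm_num), Finsupp.add_apply,
    Nat.factorization_eq_zero_of_not_dvd (show ¬ 11 ∣ 2 by norm_num),
    Nat.Prime.factorization_self (by norm_num), zero_add, pow_one]

theorem Hyp.orbit_card {z : G} (hz : orderOf z = 11) (a : α) : (orbit (Subgroup.zpowers z) a).ncard = 11 := by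
  haveI : Finite (Subgroup.zpowers z) := inferInstance
  have h1 : (orbit (Subgroup.zpowers z) a).ncard ∣ 11 := by
    rw [← Nat.card_coe_set_eq, ← hz, ← Nat.card_zpowers,
      Nat.card_congr (MulAction.orbitEquivQuotientStabilizer (Subgroup.zpowers z) a)]
    exact Subgroup.card_quotient_dvd_card _
  refine ((Nat.dvd_prime (by norm_num)).1 h1).resolve_left fun h => ?_
  obtain ⟨b, hb⟩ := Set.ncard_eq_one.1 h
  have e1 : a ∈ ({b} : Set α) := hb ▸ MulAction.mem_orbit_self a
  have e2 : z • a ∈ ({b} : Set α) := hb ▸ MulAction.mem_orbit a (⟨z, Subgroup.mem_zpowers z⟩ : Subgroup.zpowers z)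
  exact hG.eleven_no_fixed z hz a (e2.trans e1.symm)

omit hG in
theorem mem_orbit_iff {z : G} (hz : orderOf z = 11) {a b : α} :
    b ∈ orbit (Subgroup.zpowers z) a ↔ ∃ i : ℕ, i < 11 ∧ (z ^ i) • a = b := by
  constructor
  · rintro ⟨⟨g, hg⟩, rfl⟩
    obtain ⟨i, hi, rfl⟩ := (mem_zpowers_iff_mem_range_orderOf.1 hg |> Finset.mem_image.1)
    exact ⟨i, hz ▸ Finset.mem_range.1 hi, rfl⟩
  · rintro ⟨i, -, rfl⟩
    exact ⟨⟨z ^ i, Subgroup.pow_mem _ (Subgroup.mem_zpowers z) i⟩, rfl⟩

theorem Hyp.two_orbits {z : G} (hz : orderOf z = 11) {o b : α} (hb : b ∉ orbit (Subgroup.zpowers z) o)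
    (a : α) : a ∈ orbit (Subgroup.zpowers z) o ∨ a ∈ orbit (Subgroup.zpowers z) b := by
  have hd : Disjoint (orbit (Subgroup.zpowers z) o) (orbit (Subgroup.zpowers z) b) := by
    rw [Set.disjoint_left]
    intro c hc hc'
    exact hb (by rw [← MulAction.orbit_eq_iff.2 hc, MulAction.orbit_eq_iff.2 hc']; exact MulAction.mem_orbit_self b)
  have hu : orbit (Subgroup.zpowers z) o ∪ orbit (Subgroup.zpowers z) b = Set.univ := by
    refine Set.eq_of_subset_of_ncard_le (Set.subset_univ _) ?_
    rw [Set.ncard_union_eq hd, hG.orbit_card hz, hG.orbit_card hz, Set.ncard_univ, Nat.card_eq_fintype_card, hG.card]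
  exact (Set.eq_univ_iff_forall.1 hu a : _)

theorem Hyp.exists_other {z : G} (hz : orderOf z = 11) (o : α) : ∃ b, b ∉ orbit (Subgroup.zpowers z) o := by
  by_contra! h
  have := hG.orbit_card hz o
  rw [Set.eq_univ_iff_forall.2 h, Set.ncard_univ, Nat.card_eq_fintype_card, hG.card] at this
  norm_num at this

/-- An element of order eleven is self-centralizing. -/
theorem Hyp.centralizer_eq {z : G} (hz : orderOf z = 11) :
    Subgroup.centralizer ((Subgroup.zpowers z : Subgroup G) : Set G) = Subgroup.zpowers z := by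
  refine le_antisymm (fun c hc => ?_) fun c hc => Subgroup.mem_centralizer_iff.2 fun h hh => ?_
  swap
  · obtain ⟨i, rfl⟩ := Subgroup.mem_zpowers_iff.1 hc
    obtain ⟨j, rfl⟩ := Subgroup.mem_zpowers_iff.1 hh
    exact ((Commute.refl z).zpow_zpow j i).eq
  have hcz : ∀ i : ℕ, c * z ^ i = z ^ i * c := fun i =>
    (Subgroup.mem_centralizer_iff.1 hc _ (Subgroup.pow_mem _ (Subgroup.mem_zpowers z) i)).symm
  obtain ⟨o⟩ : Nonempty α := Fintype.card_pos_iff.1 (by rw [hG.card]; norm_num)
  obtain ⟨b, hb⟩ := hG.exists_other hz o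
  -- an element commuting with `z` and fixing a point of each side is trivial
  by_cases hco : c • o ∈ orbit (Subgroup.zpowers z) o
  · obtain ⟨i, -, hi⟩ := (mem_orbit_iff hz).1 hco
    set d := (z ^ i)⁻¹ * c with hd
    have hdo : d • o = o := by rw [hd, mul_smul, ← hi, inv_smul_smul]
    have hdz : ∀ k : ℕ, d * z ^ k = z ^ k * d := fun k => by
      rw [hd, mul_assoc, hcz, ← mul_assoc, ← mul_assoc, ((Commute.pow_pow_self z i k).inv_left).eq]
    have hfix0 : ∀ a ∈ orbit (Subgroup.zpowers z) o, d • a = a := fun a ha => by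
      obtain ⟨k, -, rfl⟩ := (mem_orbit_iff hz).1 ha
      rw [← mul_smul, hdz, mul_smul, hdo]
    obtain ⟨j, -, hj⟩ : ∃ j, j < 11 ∧ (z ^ j) • b = d • b := by
      refine (mem_orbit_iff hz).1 ((hG.two_orbits hz hb (d • b)).resolve_left fun h => hb ?_)
      have : d • (d • b) = d • b := hfix0 _ h
      have := smul_left_cancel d this
      rwa [this] at h
    have hd11 : d ^ 11 = 1 := by
      refine Subtype.ext (Equiv.ext fun a => ?_)
      show (d ^ 11) • a = a
      rcases hG.two_orbits hz hb a with ha | ha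
      · have := hfix0 a ha
        simp only [pow_succ, pow_zero, one_mul, mul_smul, this]
      · obtain ⟨k, -, rfl⟩ := (mem_orbit_iff hz).1 ha
        have hdb : ∀ n : ℕ, (d ^ n) • (z ^ k) • b = (z ^ (j * n + k)) • b := by
          intro n
          induction n with
          | zero => simp
          | succ n ih =>
            rw [pow_succ', mul_smul, ih, ← mul_smul, hdz, mul_smul, ← hj, ← mul_smul, ← pow_add]
            congr 2; ring
        rw [hdb, pow_add, mul_smul, pow_mul', show z ^ 11 = 1 by rw [← hz]; exact pow_orderOf_eq_one z,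
          one_pow, one_smul]
    by_cases hd1 : d = 1
    · rw [hd, inv_mul_eq_one] at hd1
      exact hd1 ▸ Subgroup.pow_mem _ (Subgroup.mem_zpowers z) i
    · exact absurd hdo (hG.eleven_no_fixed d (orderOf_eq_prime (hp := ⟨by norm_num⟩) hd11 hd1) o)
  · -- `c` interchanges the two orbits: then a power of `c` is an odd permutation
    exfalso
    have hswap : ∀ a ∈ orbit (Subgroup.zpowers z) o, c • a ∉ orbit (Subgroup.zpowers z) o := by
      intro a ha h
      obtain ⟨k, -, rfl⟩ := (mem_orbit_iff hz).1 ha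
      obtain ⟨l, -, hl⟩ := (mem_orbit_iff hz).1 h
      refine hco ((mem_orbit_iff hz).2 ?_)
      have h1 : c • o = ((z ^ k)⁻¹ * z ^ l) • o := by
        rw [mul_smul, hl, ← mul_smul c, hcz, mul_smul, inv_smul_smul]
      obtain ⟨i, hi, hzi⟩ := Finset.mem_image.1 (mem_zpowers_iff_mem_range_orderOf.1
        (Subgroup.mul_mem _ (Subgroup.inv_mem _ (Subgroup.pow_mem _ (Subgroup.mem_zpowers z) k))
          (Subgroup.pow_mem _ (Subgroup.mem_zpowers z) l)))
      exact ⟨i, hz ▸ Finset.mem_range.1 hi, by rw [h1, ← hzi]⟩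
    have hswap' : ∀ a, a ∉ orbit (Subgroup.zpowers z) o → c • a ∈ orbit (Subgroup.zpowers z) o := by
      have himg : (fun a => c • a) '' orbit (Subgroup.zpowers z) o = (orbit (Subgroup.zpowers z) o)ᶜ := by
        refine Set.eq_of_subset_of_ncard_le ?_ ?_
        · rintro _ ⟨a, ha, rfl⟩; exact hswap a ha
        · rw [Set.ncard_image_of_injective _ (MulAction.injective c), Set.ncard_compl, hG.orbit_card hz,
            Nat.card_eq_fintype_card, hG.card]
      intro a ha
      by_contra h
      have h' : c • a ∈ (fun a => c • a) '' orbit (Subgroup.zpowers z) o := himg ▸ h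
      obtain ⟨a', ha', e⟩ := h'
      exact ha (smul_left_cancel c e ▸ ha')
    have hodd : ∀ n : ℕ, ∀ a : α, (c ^ (2 * n + 1)) • a ≠ a := by
      have hev : ∀ n : ℕ, ∀ a : α, (c ^ (2 * n)) • a ∈ orbit (Subgroup.zpowers z) o ↔ a ∈ orbit (Subgroup.zpowers z) o := by
        intro n
        induction n with
        | zero => simp
        | succ n ih =>
          intro a
          rw [show 2 * (n + 1) = 2 * n + 2 by ring, pow_add, mul_smul, ih, pow_two, mul_smul]
          constructor
          · intro h; by_contra h'; exact hswap _ (hswap' _ h') h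
          · intro h; exact hswap' _ (hswap _ h)
      intro n a h
      rw [pow_succ, mul_smul] at h
      by_cases ha : a ∈ orbit (Subgroup.zpowers z) o
      · exact hswap a ha ((hev n _).1 (by rw [h]; exact ha))
      · exact ha (h ▸ (hev n _).2 (hswap' a ha))
    have hc2 : c ^ 2 ∈ Subgroup.zpowers z := by
      obtain ⟨i, -, hi⟩ := (mem_orbit_iff hz).1 (show (c ^ 2) • o ∈ orbit (Subgroup.zpowers z) o by
        rw [pow_two, mul_smul]; exact hswap' _ hco)
      set d := (z ^ i)⁻¹ * c ^ 2 with hd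
      have hdo : d • o = o := by rw [hd, mul_smul, ← hi, inv_smul_smul]
      have hc2z : ∀ k : ℕ, c ^ 2 * z ^ k = z ^ k * c ^ 2 := fun k => (Commute.pow_left (hcz k) 2).eq
      have hfix : ∀ a : α, d • a = a := by
        have hdz : ∀ k : ℕ, d * z ^ k = z ^ k * d := fun k => by
          rw [hd, mul_assoc, hc2z, ← mul_assoc, ← mul_assoc, ((Commute.pow_pow_self z i k).inv_left).eq]
        have hdc : d * c = c * d := by
          rw [hd, mul_assoc, ← pow_succ, ← mul_assoc c]
          have : c * (z ^ i)⁻¹ = (z ^ i)⁻¹ * c := (Commute.inv_right (hcz i)).eq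
          rw [this, mul_assoc, ← pow_succ']
        intro a
        rcases hG.two_orbits hz hco a with ha | ha <;> obtain ⟨k, -, rfl⟩ := (mem_orbit_iff hz).1 ha
        · rw [← mul_smul, hdz, mul_smul, hdo]
        · rw [← mul_smul, hdz, mul_smul, ← mul_smul d c, hdc, mul_smul, hdo]
      have : d = 1 := Subtype.ext (Equiv.ext hfix)
      rw [hd, inv_mul_eq_one] at this
      exact this ▸ Subgroup.pow_mem _ (Subgroup.mem_zpowers z) i
    set t := c ^ 11 with ht
    have ht2 : t ^ 2 = 1 := by
      obtain ⟨i, hi⟩ := Subgroup.mem_zpowers_iff.1 hc2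
      rw [ht, ← pow_mul, show 11 * 2 = 2 * 11 from rfl, pow_mul, ← hi, ← zpow_natCast, ← zpow_mul, mul_comm i,
        zpow_mul, zpow_natCast, show z ^ 11 = 1 by rw [← hz]; exact pow_orderOf_eq_one z, one_zpow]
    have htfix : ∀ a, (t : Perm α) a ≠ a := fun a => hodd 5 a
    have ht1 : orderOf (t : Perm α) = 2 := by
      refine orderOf_eq_prime (by rw [← Subgroup.coe_pow, ht2]; rfl) fun h => htfix o ?_
      rw [h]; rfl
    obtain ⟨n, hn⟩ := Perm.cycleType_prime_order (σ := (t : Perm α)) (by rw [ht1]; norm_num)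
    rw [ht1] at hn
    have hsupp : (t : Perm α).support = Finset.univ :=
      Finset.eq_univ_of_forall fun a => Perm.mem_support.2 (htfix a)
    have hn10 : n = 10 := by
      have h := Perm.sum_cycleType (t : Perm α)
      rw [hn, Multiset.sum_replicate, smul_eq_mul, hsupp, Finset.card_univ, hG.card] at h
      omega
    have hsign := hG.sign_eq_one t
    rw [Perm.sign_of_cycleType, hn, hn10] at hsign
    simp at hsign
    exact absurd hsign (by decide)

theorem Hyp.card_normalizer_dvd {z : G} (hz : orderOf z = 11) :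
    Nat.card (normalizer ((Subgroup.zpowers z : Subgroup G) : Set G)) ∣ 110 := by
  haveI : Fact (Nat.Prime 11) := ⟨by norm_num⟩
  set Z := Subgroup.zpowers z
  set f := Subgroup.normalizerMonoidHom Z
  rw [← Subgroup.card_mul_index f.ker]
  have h1 : Nat.card f.ker = 11 := by
    rw [Subgroup.normalizerMonoidHom_ker,
      Nat.card_congr (Subgroup.subgroupOfEquivOfLe (Subgroup.centralizer_le_normalizer _)).toEquiv,
      hG.centralizer_eq hz, Nat.card_zpowers, hz]
  have h2 : f.ker.index ∣ 10 := by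
    rw [Subgroup.index_ker]
    refine (Subgroup.card_subgroup_dvd_card f.range).trans (dvd_of_eq ?_)
    rw [IsCyclic.card_mulAut, Nat.card_zpowers, hz, Nat.totient_prime (by norm_num)]
  rw [h1]
  exact (mul_dvd_mul_left 11 h2).trans (by norm_num)

/-- Some element inverts, or acts with order five on, an element of order eleven. -/
theorem Hyp.exists_normalizing {z : G} (hz : orderOf z = 11) :
    (∃ w : G, w * z * w⁻¹ = z⁻¹) ∨
    ∃ (w : G) (r : ℕ), w * z * w⁻¹ = z ^ r ∧ r % 11 ≠ 1 ∧ r ^ 5 % 11 = 1 ∧ ∃ e, orderOf w = 5 ^ e := by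
  haveI : Fact (Nat.Prime 11) := ⟨by norm_num⟩
  obtain ⟨S, hS⟩ := hG.zpowers_sylow hz
  have hne : ¬ normalizer ((S : Subgroup G) : Set G) ≤ centralizer ((S : Subgroup G) : Set G) := by
    intro h
    obtain ⟨N, hN, hc⟩ := (CfsgLib.Transfer.hasNormalPComplement_iff_sylow S).1
      (CfsgLib.Transfer.hasNormalPComplement_of_normalizer_le_centralizer S h)
    have hi : N.index = 11 := by
      have hc' : Subgroup.IsComplement' (S : Subgroup G) N := hc.symm
      rw [hc'.index_eq_card, hS, Nat.card_zpowers, hz]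
    have := hG.top_of_index N hN (by rw [hi]; norm_num)
    rw [this, Subgroup.index_top] at hi
    norm_num at hi
  obtain ⟨w, hw, hwc⟩ := SetLike.not_le_iff_exists.1 hne
  rw [hS] at hw hwc
  have hwz : w * z * w⁻¹ ∈ Subgroup.zpowers z :=
    (Subgroup.mem_normalizer_iff.1 hw z).1 (Subgroup.mem_zpowers z)
  obtain ⟨r, hr, hwr⟩ := Finset.mem_image.1 (mem_zpowers_iff_mem_range_orderOf.1 hwz)
  rw [hz, Finset.mem_range] at hr
  have hmod : ∀ a b : ℕ, z ^ a = z ^ b ↔ a % 11 = b % 11 := fun a b => by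
    rw [pow_eq_pow_iff_modEq, hz]; rfl
  have hpow : ∀ m : ℕ, w ^ m * z * (w ^ m)⁻¹ = z ^ (r ^ m) := by
    intro m
    induction m with
    | zero => simp
    | succ m ih =>
      rw [pow_succ', show w * w ^ m * z * (w * w ^ m)⁻¹ = w * (w ^ m * z * (w ^ m)⁻¹) * w⁻¹ by group, ih,
        ← conj_pow, show w * z * w⁻¹ = z ^ r from hwr.symm, ← pow_mul, pow_succ']
  have hr1 : r ≠ 1 := by
    rintro rfl
    apply hwc
    rw [Subgroup.mem_centralizer_iff]
    intro h hh
    obtain ⟨i, rfl⟩ := Subgroup.mem_zpowers_iff.1 hh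
    have : Commute w z := by
      have : w * z * w⁻¹ = z := by rw [← hwr, pow_one]
      calc w * z = w * z * w⁻¹ * w := by group
        _ = z * w := by rw [this]
    exact (this.zpow_right i).eq.symm
  have hr0 : r ≠ 0 := by
    rintro rfl
    rw [pow_zero] at hwr
    have : z = 1 := by
      calc z = w⁻¹ * (w * z * w⁻¹) * w := by group
        _ = 1 := by rw [← hwr]; group
    rw [this, orderOf_one] at hz
    norm_num at hz
  by_cases h5 : r ^ 5 % 11 = 1
  · right
    have hw0 : orderOf w ≠ 0 := (orderOf_pos w).ne'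
    set m := ordCompl[5] (orderOf w)
    have hm : ¬ 5 ∣ m := Nat.not_dvd_ordCompl (by norm_num) hw0
    refine ⟨w ^ m, r ^ m, hpow m, fun h1 => ?_, ?_, (orderOf w).factorization 5, ?_⟩
    · have h2 : r ^ (m % 5) % 11 = 1 := by
        rw [← Nat.div_add_mod m 5, pow_add, pow_mul, Nat.mul_mod, Nat.pow_mod, h5, one_pow] at h1
        simpa using h1
      have hne0 : m % 5 ≠ 0 := fun h => hm (Nat.dvd_of_mod_eq_zero h)
      have hlt : m % 5 < 5 := Nat.mod_lt _ (by norm_num)
      generalize m % 5 = e at h2 hne0 hlt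
      interval_cases r <;> interval_cases e
      all_goals first | omega | (revert h2 h5; norm_num)
    · rw [← pow_mul, mul_comm, pow_mul, Nat.pow_mod, h5, one_pow, Nat.one_mod_eq_one.2 (by norm_num)]
    · rw [orderOf_pow_of_dvd (Nat.ordCompl_pos 5 hw0).ne' (Nat.ordCompl_dvd _ 5)]
      exact Nat.div_eq_of_eq_mul_left (Nat.ordCompl_pos 5 hw0) (Nat.ordProj_mul_ordCompl_eq_self _ 5).symm
  · left
    refine ⟨w ^ 5, ?_⟩
    rw [hpow, eq_inv_iff_mul_eq_one, ← pow_succ, ← pow_zero z, hmod]
    interval_cases r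
    all_goals first | omega | (revert h5; norm_num)

end CfsgLib.SylowNumbers.TwentyTwo
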