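import Cfsg.Agent.Lib.SylowNumbers.TwentyTwo.Basic

/-!
A faithful rational representation of degree ten in which an element of order eleven satisfies the eleventh
cyclotomic polynomial and is inverted inside the group has only scalars in its commutant.
-/

set_option autoImplicit false

namespace CfsgLib.SylowNumbers.TwentyTwo

open Polynomial Module

section Field

variable {W : Type*} [AddCommGroup W] [Module ℚ W] [FiniteDimensional ℚ W]
variable (Z : Module.End ℚ W) (hΦ : aeval Z (cyclotomic 11 ℚ) = 0)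

instance fact_irreducible_eleven : Fact (Irreducible (cyclotomic 11 ℚ)) :=
  ⟨cyclotomic.irreducible_rat (by norm_num)⟩

/-- The field generated by `Z`. -/
abbrev K11 : Type := AdjoinRoot (cyclotomic 11 ℚ)

noncomputable def toEnd : K11 →ₐ[ℚ] Module.End ℚ W :=
  (Ideal.Quotient.lift _ (aeval Z).toRingHom fun p hp => by
    obtain ⟨q, rfl⟩ := Ideal.mem_span_singleton.1 hp
    show aeval Z (cyclotomic 11 ℚ * q) = 0
    rw [map_mul, hΦ, zero_mul] : K11 →+* Module.End ℚ W).toRatAlgHom

theorem toEnd_mk (p : ℚ[X]) : toEnd Z hΦ (AdjoinRoot.mk _ p) = aeval Z p := rfl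

theorem toEnd_root : toEnd Z hΦ (AdjoinRoot.root _) = Z := by
  rw [← AdjoinRoot.mk_X, toEnd_mk, aeval_X]

theorem toEnd_eq_zero {x : K11} (hx : x ≠ 0) {v : W} (h : toEnd Z hΦ x v = 0) : v = 0 := by
  have := congrArg (toEnd Z hΦ x⁻¹) h
  rwa [map_zero, ← Module.End.mul_apply, ← map_mul, inv_mul_cancel₀ hx, map_one, Module.End.one_apply] at this

theorem finrank_K11 : finrank ℚ K11 = 10 := by
  rw [(AdjoinRoot.powerBasis (cyclotomic_ne_zero 11 ℚ)).finrank]
  show (cyclotomic 11 ℚ).natDegree = 10
  rw [natDegree_cyclotomic, Nat.totient_prime (by norm_num)]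

instance finite_K11 : FiniteDimensional ℚ K11 :=
  (AdjoinRoot.powerBasis (cyclotomic_ne_zero 11 ℚ)).finite

/-- Orbit map at a vector. -/
noncomputable def evalAt (v : W) : K11 →ₗ[ℚ] W :=
  (LinearMap.applyₗ v).comp (toEnd Z hΦ).toLinearMap

theorem evalAt_injective {v : W} (hv : v ≠ 0) : Function.Injective (evalAt Z hΦ v) := by
  rw [← LinearMap.ker_eq_bot, LinearMap.ker_eq_bot']
  intro x hx
  by_contra hne
  exact hv (toEnd_eq_zero Z hΦ hne hx)

theorem finrank_eq_ten (hΦ : aeval Z (cyclotomic 11 ℚ) = 0) (h : finrank ℚ W < 20) :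
    finrank ℚ W = 0 ∨ finrank ℚ W = 10 := by
  rcases Nat.eq_zero_or_pos (finrank ℚ W) with h0 | h0
  · exact Or.inl h0
  right
  have : Nontrivial W := Module.finrank_pos_iff.1 h0
  obtain ⟨v, hv⟩ := exists_ne (0 : W)
  have h1 : finrank ℚ (LinearMap.range (evalAt Z hΦ v)) = 10 := by
    rw [LinearMap.finrank_range_of_inj (evalAt_injective Z hΦ hv), finrank_K11]
  by_contra hne
  have hlt : LinearMap.range (evalAt Z hΦ v) < ⊤ := by
    refine lt_top_iff_ne_top.2 fun e => hne ?_
    rw [← finrank_top ℚ W, ← e, h1]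
  obtain ⟨u, -, hu⟩ := SetLike.exists_of_lt hlt
  have hu0 : u ≠ 0 := fun e => hu (e ▸ zero_mem _)
  have hd : Disjoint (LinearMap.range (evalAt Z hΦ v)) (LinearMap.range (evalAt Z hΦ u)) := by
    rw [Submodule.disjoint_def]
    rintro x ⟨a, rfl⟩ ⟨b, hb⟩
    by_cases hb0 : b = 0
    · rw [← hb, hb0, map_zero]
    · refine absurd ⟨b⁻¹ * a, ?_⟩ hu
      show toEnd Z hΦ (b⁻¹ * a) v = u
      rw [map_mul, Module.End.mul_apply]
      show toEnd Z hΦ b⁻¹ (evalAt Z hΦ v a) = u
      rw [← hb]
      show toEnd Z hΦ b⁻¹ (toEnd Z hΦ b u) = u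
      rw [← Module.End.mul_apply, ← map_mul, inv_mul_cancel₀ hb0, map_one, Module.End.one_apply]
  have h2 := Submodule.finrank_add_finrank_le_of_disjoint hd
  rw [h1, LinearMap.finrank_range_of_inj (evalAt_injective Z hΦ hu0), finrank_K11] at h2
  omega

theorem exists_of_commute (hdim : finrank ℚ W = 10) {f : Module.End ℚ W} (hf : Commute f Z) :
    ∃ x : K11, toEnd Z hΦ x = f := by
  have : Nontrivial W := Module.finrank_pos_iff.1 (by rw [hdim]; norm_num)
  obtain ⟨v, hv⟩ := exists_ne (0 : W)
  have hs : Function.Surjective (evalAt Z hΦ v) :=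
    (LinearMap.injective_iff_surjective_of_finrank_eq_finrank (by rw [finrank_K11, hdim])).1
      (evalAt_injective Z hΦ hv)
  obtain ⟨x, hx⟩ := hs (f v)
  refine ⟨x, LinearMap.ext fun u => ?_⟩
  obtain ⟨y, rfl⟩ := hs u
  have hc : Commute f (toEnd Z hΦ y) := by
    induction y using AdjoinRoot.induction_on with
    | ih p =>
      rw [toEnd_mk]
      induction p using Polynomial.induction_on' with
      | add p q hp hq => rw [map_add]; exact hp.add_right hq
      | monomial n a => rw [aeval_monomial, ← Algebra.smul_def]; exact (hf.pow_right n).smul_right a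
  show toEnd Z hΦ x (toEnd Z hΦ y v) = f (toEnd Z hΦ y v)
  rw [← Module.End.mul_apply, ← map_mul, mul_comm, map_mul, Module.End.mul_apply, ← Module.End.mul_apply f,
    hc.eq, Module.End.mul_apply]
  exact congrArg (toEnd Z hΦ y) hx

/-- The elements of the field commuting with given endomorphisms. -/
noncomputable def fixedBy (S : Set (Module.End ℚ W)) : IntermediateField ℚ K11 where
  carrier := {x | ∀ a ∈ S, Commute a (toEnd Z hΦ x)}
  mul_mem' {x y} hx hy a ha := by rw [map_mul]; exact (hx a ha).mul_right (hy a ha)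
  one_mem' a _ := by rw [map_one]; exact Commute.one_right a
  add_mem' {x y} hx hy a ha := by rw [map_add]; exact (hx a ha).add_right (hy a ha)
  zero_mem' a _ := by rw [map_zero]; exact Commute.zero_right a
  algebraMap_mem' q a _ := by rw [AlgHom.commutes]; exact (Algebra.commutes q a).symm
  inv_mem' x hx a ha := by
    rcases eq_or_ne x 0 with rfl | hx0
    · rw [inv_zero, map_zero]; exact Commute.zero_right a
    have h1 : toEnd Z hΦ x⁻¹ * toEnd Z hΦ x = 1 := by rw [← map_mul, inv_mul_cancel₀ hx0, map_one]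
    have h2 : toEnd Z hΦ x * toEnd Z hΦ x⁻¹ = 1 := by rw [← map_mul, mul_inv_cancel₀ hx0, map_one]
    show a * toEnd Z hΦ x⁻¹ = toEnd Z hΦ x⁻¹ * a
    calc a * toEnd Z hΦ x⁻¹ = toEnd Z hΦ x⁻¹ * toEnd Z hΦ x * a * toEnd Z hΦ x⁻¹ := by rw [h1, one_mul]
      _ = toEnd Z hΦ x⁻¹ * (a * toEnd Z hΦ x) * toEnd Z hΦ x⁻¹ := by
        rw [(hx a ha).eq]; simp only [mul_assoc]
      _ = toEnd Z hΦ x⁻¹ * a := by rw [mul_assoc, mul_assoc, h2, mul_one]

theorem mem_fixedBy {S : Set (Module.End ℚ W)} {x : K11} :
    x ∈ fixedBy Z hΦ S ↔ ∀ a ∈ S, Commute a (toEnd Z hΦ x) := Iff.rfl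

theorem finrank_fixedBy_singleton {a : Module.End ℚ W} {Z' : Module.End ℚ W} (hZ : Z * Z' = 1)
    (h : a * Z = Z' * a) (h' : a * Z' = Z * a) (hne : ¬ Commute a Z) :
    finrank ℚ (fixedBy Z hΦ {a}) = 5 := by
  set L := fixedBy Z hΦ {a}
  set θ : K11 := AdjoinRoot.root _
  have hθ0 : θ ≠ 0 := fun e => by
    have := congrArg (toEnd Z hΦ) e
    rw [toEnd_root, map_zero] at this
    rw [this, zero_mul] at hZ
    exact hne (by rw [this]; exact Commute.zero_right a)
  have hθ' : toEnd Z hΦ θ⁻¹ = Z' := by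
    calc toEnd Z hΦ θ⁻¹ = toEnd Z hΦ θ⁻¹ * (Z * Z') := by rw [hZ, mul_one]
      _ = Z' := by
        have e := map_mul (toEnd Z hΦ) θ⁻¹ θ
        rw [inv_mul_cancel₀ hθ0, map_one, toEnd_root] at e
        rw [← mul_assoc, ← e, one_mul]
  have hc : θ + θ⁻¹ ∈ L := by
    intro b hb
    rw [Set.mem_singleton_iff.1 hb, map_add, hθ', toEnd_root]
    show a * (Z + Z') = (Z + Z') * a
    rw [mul_add, h, h', add_comm, add_mul]
  have hle : finrank L K11 ≤ 2 := by
    classical
    have htop : (⊤ : Submodule L K11) ≤ Submodule.span L (↑({1, θ} : Finset K11) : Set K11) := by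
      rintro x -
      rw [Finset.coe_insert, Finset.coe_singleton]
      induction x using AdjoinRoot.induction_on with
      | ih p =>
        induction p using Polynomial.induction_on' with
        | add p q hp hq => rw [map_add]; exact add_mem hp hq
        | monomial n q =>
          have hn : ∀ n : ℕ, θ ^ n ∈ Submodule.span L ({1, θ} : Set K11) := by
            intro n
            induction n with
            | zero => rw [pow_zero]; exact Submodule.subset_span (Set.mem_insert _ _)
            | succ n ih =>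
              obtain ⟨u, w, huw⟩ := Submodule.mem_span_pair.1 ih
              refine Submodule.mem_span_pair.2 ⟨-w, u + w * ⟨_, hc⟩, ?_⟩
              rw [pow_succ, ← huw]
              simp only [IntermediateField.smul_def, smul_eq_mul]
              push_cast
              field_simp
              ring
          rw [← Polynomial.C_mul_X_pow_eq_monomial, map_mul, map_pow, AdjoinRoot.mk_C, AdjoinRoot.mk_X]
          have : AdjoinRoot.of _ q * θ ^ n = (algebraMap ℚ L q) • θ ^ n := by
            rw [Algebra.smul_def]; rfl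
          rw [this]
          exact Submodule.smul_mem _ _ (hn n)
    have h1 := finrank_span_finset_le_card (R := L) ({1, θ} : Finset K11)
    rw [Set.finrank, show Submodule.span L (↑({1, θ} : Finset K11) : Set K11) = ⊤ from top_le_iff.1 htop,
      finrank_top] at h1
    exact h1.trans (Finset.card_le_two)
  have hne1 : finrank L K11 ≠ 1 := by
    intro e
    have hm := Module.finrank_mul_finrank ℚ L K11
    rw [e, mul_one, finrank_K11] at hm
    have htop : L = ⊤ := IntermediateField.eq_of_le_of_finrank_eq le_top (by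
      rw [IntermediateField.finrank_top', finrank_K11]; exact hm)
    have hθL : θ ∈ L := htop ▸ IntermediateField.mem_top
    have := hθL a rfl
    rw [toEnd_root] at this
    exact hne this
  have hm := Module.finrank_mul_finrank ℚ L K11
  rw [finrank_K11] at hm
  have hpos : 0 < finrank L K11 := finrank_pos
  interval_cases hd : finrank L K11
  · exact absurd rfl hne1
  · omega

end Field

section Group

variable {W : Type*} [AddCommGroup W] [Module ℚ W] [FiniteDimensional ℚ W]
variable {α : Type*} [Fintype α] [DecidableEq α] {G : Subgroup (Equiv.Perm α)}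

theorem Hyp.scalar_commutant (hG : Hyp G) (ρ : G →* Module.End ℚ W) (hρ : Function.Injective ρ)
    (hdim : finrank ℚ W = 10) {z w : G} (hz : orderOf z = 11) (hw : w * z * w⁻¹ = z⁻¹)
    (hΦ : aeval (ρ z) (cyclotomic 11 ℚ) = 0) (f : Module.End ℚ W) (hf : ∀ g, Commute (ρ g) f) :
    ∃ q : ℚ, f = q • (1 : Module.End ℚ W) := by
  set F := fixedBy (ρ z) hΦ (Set.range ρ) with hF
  set L := fixedBy (ρ z) hΦ {ρ w} with hL
  have hFL : F ≤ L := fun x hx a ha => hx a (Set.mem_singleton_iff.1 ha ▸ Set.mem_range_self w)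
  have hwz : ¬ Commute (ρ w) (ρ z) := by
    intro h
    have h1 : w * z = z * w := hρ (by rw [map_mul, map_mul]; exact h.eq)
    rw [h1, mul_inv_cancel_right, eq_inv_iff_mul_eq_one, ← pow_two] at hw
    have := orderOf_dvd_of_pow_eq_one hw
    rw [hz] at this
    norm_num at this
  have hL5 : finrank ℚ L = 5 := finrank_fixedBy_singleton (ρ z) hΦ
    (Z' := ρ z⁻¹) (by rw [← map_mul, mul_inv_cancel, map_one])
    (by rw [← map_mul, ← map_mul, ← hw, inv_mul_cancel_right])
    (by
      rw [← map_mul, ← map_mul]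
      congr 1
      have h2 : (w * z * w⁻¹)⁻¹ = z := by rw [hw, inv_inv]
      calc w * z⁻¹ = (w * z * w⁻¹)⁻¹ * w := by group
        _ = z * w := by rw [h2]) hwz
  obtain ⟨x, hx⟩ := exists_of_commute (ρ z) hΦ hdim (hf z).symm
  have hxF : x ∈ F := by
    rintro a ⟨g, rfl⟩
    rw [hx]; exact hf g
  have h5 : finrank ℚ F ∣ 5 := hL5 ▸ IntermediateField.finrank_dvd_of_le_right hFL
  rcases (Nat.dvd_prime (by norm_num)).1 h5 with h1 | h5
  · rw [IntermediateField.finrank_eq_one_iff] at h1
    rw [h1, IntermediateField.mem_bot] at hxF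
    obtain ⟨q, rfl⟩ := hxF
    exact ⟨q, by rw [← hx, AlgHom.commutes, Algebra.algebraMap_eq_smul_one]⟩
  exfalso
  haveI : Fact (Nat.Prime 2) := ⟨Nat.prime_two⟩
  obtain ⟨o⟩ : Nonempty α := Fintype.card_pos_iff.1 (by rw [hG.card]; norm_num)
  obtain ⟨t, ht⟩ := exists_prime_orderOf_dvd_card' 2 (show 2 ∣ Nat.card G by
    rw [hG.card_eq o]; exact dvd_mul_of_dvd_left (by norm_num) _)
  set T := ρ t
  have ht2 : t * t = 1 := by rw [← pow_two, ← ht]; exact pow_orderOf_eq_one t
  have hTT : T * T = 1 := by rw [← map_mul, ht2, map_one]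
  set Ep := LinearMap.ker (T - 1)
  set Em := LinearMap.ker (T + 1)
  have hEp : ∀ v, v ∈ Ep ↔ T v = v := fun v => by
    simp [Ep, LinearMap.mem_ker, sub_eq_zero]
  have hEm : ∀ v, v ∈ Em ↔ T v = -v := fun v => by
    simp [Em, LinearMap.mem_ker, add_eq_zero_iff_eq_neg]
  have hTTv : ∀ v, T (T v) = v := fun v => by rw [← Module.End.mul_apply, hTT, Module.End.one_apply]
  have hcompl : IsCompl Ep Em := by
    constructor
    · rw [Submodule.disjoint_def]
      intro v h1 h2
      rw [hEp] at h1; rw [hEm, h1] at h2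
      have : (2 : ℚ) • v = 0 := by rw [two_smul]; nth_rw 2 [h2]; rw [add_neg_cancel]
      exact (smul_eq_zero.1 this).resolve_left (by norm_num)
    · rw [codisjoint_iff, eq_top_iff]
      rintro v -
      rw [Submodule.mem_sup]
      refine ⟨(1/2 : ℚ) • (v + T v), ?_, (1/2 : ℚ) • (v - T v), ?_, ?_⟩
      · rw [hEp, map_smul, map_add, hTTv, add_comm]
      · rw [hEm, map_smul, map_sub, hTTv, ← smul_neg, neg_sub]
      · rw [← smul_add]; module
  have hEpne : Ep ≠ ⊥ := by
    intro e
    have hT : T = -1 := by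
      refine LinearMap.ext fun v => ?_
      have : v ∈ Em := by
        have htop : Em = ⊤ := by simpa [e] using hcompl.sup_eq_top
        rw [htop]; exact Submodule.mem_top
      rw [(hEm v).1 this]; rfl
    have hc : t * z = z * t := hρ (by rw [map_mul, map_mul, show ρ t = -1 from hT]; simp)
    have hmem : t ∈ Subgroup.centralizer ((Subgroup.zpowers z : Subgroup G) : Set G) := by
      rw [Subgroup.mem_centralizer_iff]
      intro h hh
      obtain ⟨i, rfl⟩ := Subgroup.mem_zpowers_iff.1 hh
      exact ((show Commute t z from hc).zpow_right i).eq.symm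
    rw [hG.centralizer_eq hz] at hmem
    have hd := orderOf_dvd_natCard (⟨t, hmem⟩ : Subgroup.zpowers z)
    rw [Subgroup.orderOf_mk, ht, Nat.card_zpowers, hz] at hd
    norm_num at hd
  have hEmne : Em ≠ ⊥ := by
    intro e
    have hT : T = 1 := by
      refine LinearMap.ext fun v => ?_
      have : v ∈ Ep := by
        have htop : Ep = ⊤ := by simpa [e] using hcompl.sup_eq_top
        rw [htop]; exact Submodule.mem_top
      rw [(hEp v).1 this]; rfl
    have : t = 1 := hρ (by rw [map_one]; exact hT)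
    rw [this, orderOf_one] at ht
    norm_num at ht
  have hge : ∀ E : Submodule ℚ W, E ≠ ⊥ →
      (∀ y ∈ F, ∀ v ∈ E, toEnd (ρ z) hΦ y v ∈ E) → 5 ≤ finrank ℚ E := by
    intro E hE hstab
    obtain ⟨v, hv, hv0⟩ := Submodule.exists_mem_ne_zero_of_ne_bot hE
    let m : F →ₗ[ℚ] E := ((evalAt (ρ z) hΦ v).comp F.val.toLinearMap).codRestrict E fun y => hstab y y.2 v hv
    have hm : Function.Injective m := fun a b hab =>
      Subtype.ext (evalAt_injective (ρ z) hΦ hv0 (congrArg Subtype.val hab : _))
    exact h5 ▸ LinearMap.finrank_le_finrank_of_injective hm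
  have hcy : ∀ y ∈ F, ∀ v : W, T (toEnd (ρ z) hΦ y v) = toEnd (ρ z) hΦ y (T v) := fun y hy v =>
    LinearMap.congr_fun ((hy T ⟨t, rfl⟩).eq) v
  have h5p := hge Ep hEpne fun y hy v hv => by rw [hEp] at hv ⊢; rw [hcy y hy, hv]
  have h5m := hge Em hEmne fun y hy v hv => by rw [hEm] at hv ⊢; rw [hcy y hy, hv, map_neg]
  have hsum := Submodule.finrank_add_eq_of_isCompl hcompl
  rw [hdim] at hsum
  have hdet : LinearMap.det T = -1 := by
    let e := Submodule.prodEquivOfIsCompl Ep Em hcompl
    have hT : T = (e : (Ep × Em) →ₗ[ℚ] W) ∘ₗ (LinearMap.prodMap LinearMap.id (-LinearMap.id)) ∘ₗ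
        (e.symm : W →ₗ[ℚ] Ep × Em) := by
      refine LinearMap.ext fun v => ?_
      obtain ⟨⟨a, b⟩, rfl⟩ := e.surjective v
      rw [LinearMap.comp_apply, LinearMap.comp_apply, LinearEquiv.coe_coe, LinearEquiv.coe_coe,
        LinearEquiv.symm_apply_apply]
      simp only [LinearMap.prodMap_apply,
        LinearMap.id_apply, LinearMap.neg_apply, e, Submodule.coe_prodEquivOfIsCompl']
      rw [map_add, (hEp _).1 a.2, (hEm _).1 b.2]
      rfl
    rw [hT, LinearMap.det_conj, LinearMap.det_prodMap, LinearMap.det_id, one_mul,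
      show (-LinearMap.id : Em →ₗ[ℚ] Em) = (-1 : ℚ) • LinearMap.id by module, LinearMap.det_smul, LinearMap.det_id,
      show finrank ℚ Em = 5 by omega]
    norm_num
  -- the determinant gives a subgroup of index two
  let d : G →* ℚ := LinearMap.det.comp ρ
  have hd : ∀ g, d g = 1 ∨ d g = -1 := by
    intro g
    have hp : d g ^ orderOf g = 1 := by rw [← map_pow, pow_orderOf_eq_one, map_one]
    have habs : |d g| = 1 := by
      have := congrArg abs hp
      rwa [abs_pow, abs_one, pow_eq_one_iff_of_nonneg (abs_nonneg _) (orderOf_pos g).ne'] at this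
    exact (abs_eq (by norm_num)).1 habs
  let du : G →* ℚˣ := d.toHomUnits
  have hidx : du.ker.index ≤ 2 := by
    classical
    rw [Subgroup.index_ker]
    have hsub : (du.range : Set ℚˣ) ⊆ ({1, -1} : Set ℚˣ) := by
      rintro _ ⟨g, rfl⟩
      rcases hd g with h | h
      · left; exact Units.ext h
      · right; exact Units.ext h
    refine le_trans ?_ (le_trans (Set.ncard_le_ncard hsub) ((Set.ncard_insert_le _ _).trans (by simp)))
    rw [← Nat.card_coe_set_eq]
    rfl
  have htop := hG.top_of_index du.ker inferInstance fun h => by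
    have hpos : 0 < du.ker.index := Nat.pos_of_ne_zero Subgroup.index_ne_zero_of_finite
    have := Nat.le_of_dvd hpos h
    omega
  have : du t = 1 := MonoidHom.mem_ker.1 (htop ▸ Subgroup.mem_top t)
  have h1 : LinearMap.det T = 1 := congrArg Units.val this
  rw [hdet] at h1
  norm_num at h1

end Group

end CfsgLib.SylowNumbers.TwentyTwo
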