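import Cfsg.Agent.Lib.SylowNumbers.TwentyTwo.Rank3

/-!
An element acting with order five on a subgroup of order eleven leaves at most three orbitals.
-/

set_option autoImplicit false

namespace CfsgLib.SylowNumbers.TwentyTwo

open Equiv Subgroup MulAction
open scoped Pointwise

/-- Labels for the residues modulo eleven: zero, squares, non-squares. -/
def sq11 (i : Fin 11) : Bool := decide ((i : ℕ) ∈ [1, 3, 4, 5, 9])

theorem exists_power (r : ℕ) (h1 : r % 11 ≠ 1) (h5 : r ^ 5 % 11 = 1) (i : Fin 11) (hi : i ≠ 0) :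
    ∃ j : ℕ, ((if sq11 i then 1 else 2) * r ^ j) % 11 = i := by
  have key : ∀ (s : Fin 11) (k : Fin 11), (s : ℕ) ^ 5 % 11 = 1 → (s : ℕ) ≠ 1 → k ≠ 0 →
      ∃ j : Fin 5, ((if sq11 k then 1 else 2) * (s : ℕ) ^ (j : ℕ)) % 11 = k := by decide
  obtain ⟨j, hj⟩ := key ⟨r % 11, Nat.mod_lt _ (by norm_num)⟩ i
    (by show (r % 11) ^ 5 % 11 = 1; rw [← Nat.pow_mod]; exact h5) h1 hi
  refine ⟨j, ?_⟩
  rw [Nat.mul_mod, Nat.pow_mod, ← Nat.mul_mod]
  exact hj

theorem card_filter_eleven {κ : Type*} [DecidableEq κ] (d A B v : κ) :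
    (Finset.univ.filter fun i : Fin 11 => (if i = 0 then d else if sq11 i then A else B) = v).card =
      (if d = v then 1 else 0) + 5 * (if A = v then 1 else 0) + 5 * (if B = v then 1 else 0) := by
  rw [Finset.card_filter]
  simp only [Fin.sum_univ_succ, Fin.sum_univ_zero]
  simp [sq11, Fin.ext_iff]
  split_ifs <;> norm_num

theorem classes_le_two {κ : Type*} [DecidableEq κ] (c0 : κ) (c : Fin 4 → κ)
    (h : ∀ v, ((if c0 = v then 1 else 0) + 5 * (Finset.univ.filter fun j => c j = v).card) % 3 = 0) :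
    ∃ v, ∀ j, c j = c0 ∨ c j = v := by
  by_cases hall : ∀ j, c j = c0
  · exact ⟨c0, fun j => Or.inl (hall j)⟩
  push Not at hall
  obtain ⟨j₀, hj₀⟩ := hall
  refine ⟨c j₀, fun j => ?_⟩
  by_contra! hn
  have h1 := h c0
  have h2 := h (c j₀)
  have h3 := h (c j)
  rw [if_pos rfl] at h1
  rw [if_neg (Ne.symm hj₀)] at h2
  rw [if_neg (Ne.symm hn.1)] at h3
  have p2 : 0 < (Finset.univ.filter fun i => c i = c j₀).card := Finset.card_pos.2 ⟨j₀, by simp⟩
  have p3 : 0 < (Finset.univ.filter fun i => c i = c j).card := Finset.card_pos.2 ⟨j, by simp⟩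
  have hd : (Finset.univ.filter fun i => c i = c j₀).card + (Finset.univ.filter fun i => c i = c j).card ≤ 4 := by
    rw [← Finset.card_union_of_disjoint (Finset.disjoint_filter.2 fun i _ e1 e2 => hn.2 (e2.symm.trans e1))]
    exact (Finset.card_le_univ _).trans (le_of_eq (Fintype.card_fin 4))
  omega

variable {α : Type*} [Fintype α] [DecidableEq α] {G : Subgroup (Perm α)} (hG : Hyp G)

include hG

theorem Hyp.orbitals_le_of_five {z w : G} {r e : ℕ} (hz : orderOf z = 11) (hw : w * z * w⁻¹ = z ^ r)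
    (hr : r % 11 ≠ 1) (hr5 : r ^ 5 % 11 = 1) (he : orderOf w = 5 ^ e) : Nat.card (OrbQ G) ≤ 3 := by
  classical
  haveI : Fact (Nat.Prime 5) := ⟨by norm_num⟩
  have hz11 : z ^ 11 = 1 := by rw [← hz]; exact pow_orderOf_eq_one z
  have hzmod : ∀ i : ℕ, z ^ (i % 11) = z ^ i := fun i => by rw [← hz, pow_mod_orderOf]
  have hmove : ∀ (i : ℕ) (p : α), w • (z ^ i) • p = (z ^ (r * i)) • w • p := by
    intro i p
    rw [← mul_smul, ← mul_smul]
    congr 1
    rw [pow_mul, ← hw, conj_pow, inv_mul_cancel_right]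
  have hfree : ∀ (i j : ℕ) (p : α), (z ^ i) • p = (z ^ j) • p → i % 11 = j % 11 := by
    intro i j p h
    have h' : (z ^ (i + (11 - j % 11))) • p = p := by
      rw [add_comm, pow_add, mul_smul, h, ← mul_smul, ← pow_add, ← hzmod, show (11 - j % 11 + j) % 11 = 0 by omega,
        pow_zero, one_smul]
    by_contra hne
    refine hG.eleven_no_fixed (z ^ (i + (11 - j % 11))) ?_ p h'
    refine orderOf_eq_prime (hp := ⟨by norm_num⟩) (by rw [← pow_mul, mul_comm, pow_mul, hz11, one_pow]) fun h1 => ?_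
    rw [pow_eq_one_iff_modEq, hz] at h1
    unfold Nat.ModEq at h1
    omega
  -- two fixed points of `w`
  obtain ⟨o, o2, hoo, hwo, hwo2⟩ : ∃ o o2 : α, o ≠ o2 ∧ w • o = o ∧ w • o2 = o2 := by
    have hp : IsPGroup 5 (Subgroup.zpowers w) := IsPGroup.of_card (n := e) (by rw [Nat.card_zpowers, he])
    have h := hp.card_modEq_card_fixedPoints (α := α)
    rw [Nat.card_eq_fintype_card, hG.card] at h
    unfold Nat.ModEq at h
    have h2 : 2 ≤ Nat.card (fixedPoints (Subgroup.zpowers w) α) := by omega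
    rw [Nat.card_eq_fintype_card] at h2
    obtain ⟨⟨o, ho⟩, ⟨o2, ho2⟩, hne⟩ := Fintype.one_lt_card_iff.1 h2
    exact ⟨o, o2, fun e => hne (Subtype.ext e), ho ⟨w, Subgroup.mem_zpowers w⟩, ho2 ⟨w, Subgroup.mem_zpowers w⟩⟩
  have hnot : o2 ∉ orbit (Subgroup.zpowers z) o := by
    intro h
    obtain ⟨i, hi, rfl⟩ := (mem_orbit_iff hz).1 h
    rw [hmove, hwo] at hwo2
    have hri := hfree _ _ _ hwo2
    have key : ∀ (s : Fin 11) (k : Fin 11), (s : ℕ) ≠ 1 → (s : ℕ) * k % 11 = k → k = 0 := by decide
    have := key ⟨r % 11, Nat.mod_lt _ (by norm_num)⟩ ⟨i, hi⟩ hr (by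
      show r % 11 * i % 11 = i
      rw [Nat.mod_mul_mod, hri, Nat.mod_eq_of_lt hi])
    have hi0 : i = 0 := congrArg Fin.val this
    exact hoo (by rw [hi0, pow_zero, one_smul])
  let base : Bool → α := fun b => if b then o2 else o
  have hbase : ∀ b, w • base b = base b := by rintro ⟨_ | _⟩ <;> assumption
  let pt : Fin 11 × Bool → α := fun p => (z ^ (p.1 : ℕ)) • base p.2
  have hpt : Function.Bijective pt := by
    refine (Fintype.bijective_iff_surjective_and_card pt).2 ⟨fun y => ?_, by simp [hG.card]⟩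
    rcases hG.two_orbits hz hnot y with h | h <;> obtain ⟨i, hi, rfl⟩ := (mem_orbit_iff hz).1 h
    · exact ⟨(⟨i, hi⟩, false), rfl⟩
    · exact ⟨(⟨i, hi⟩, true), rfl⟩
  have hwn : ∀ (n i : ℕ) (b : Bool), (w ^ n) • (z ^ i) • base b = (z ^ (i * r ^ n)) • base b := by
    intro n
    induction n with
    | zero => simp
    | succ n ih =>
      intro i b
      rw [pow_succ', mul_smul, ih, hmove, hbase, pow_succ', mul_left_comm]
  -- the class of a point
  let rep : Bool → Bool → OrbQ G := fun s b => cl G o ((z ^ (if s then 1 else 2)) • base b)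
  have hcl : ∀ p : Fin 11 × Bool, cl G o (pt p) =
      if p.1 = 0 then cl G o (base p.2) else if sq11 p.1 then rep true p.2 else rep false p.2 := by
    rintro ⟨i, b⟩
    by_cases hi : i = 0
    · simp [hi, pt]
    obtain ⟨j, hj⟩ := exists_power r hr hr5 i hi
    have hrep : cl G o (pt (i, b)) = rep (sq11 i) b := by
      refine (cl_eq_iff G).2 ⟨w ^ j, pow_fix hwo j, ?_⟩
      show (w ^ j) • (z ^ (if sq11 i then 1 else 2)) • base b = (z ^ (i : ℕ)) • base b
      rw [hwn, ← hzmod, hj]
    rw [hrep, if_neg hi]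
    cases sq11 i <;> rfl
  have hdiag : ∀ y : α, cl G o y = cl G o o → y = o := by
    intro y h
    obtain ⟨g, h1, h2⟩ := (cl_eq_iff G).1 h
    exact h2.symm.trans h1
  let c : Fin 4 → OrbQ G := ![rep true false, rep false false, rep true true, rep false true]
  obtain ⟨v, hv⟩ := classes_le_two (cl G o o2) c (by
    intro v
    by_cases hvd : v = cl G o o
    · have h0 : ¬ cl G o o2 = v := fun e => hoo (hdiag o2 (e.trans hvd)).symm
      have h1 : ∀ (i : ℕ) (b : Bool), i % 11 ≠ 0 → cl G o ((z ^ i) • base b) ≠ v := by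
        intro i b hi e
        have := hdiag _ (e.trans hvd)
        rcases b with _ | _
        · have h00 : (z ^ i) • o = (z ^ 0) • o := by rw [pow_zero, one_smul]; exact this
          exact hi (hfree _ _ _ h00)
        · refine hnot ((mem_orbit_iff hz).2 ⟨(11 - i % 11) % 11, Nat.mod_lt _ (by norm_num), ?_⟩)
          have this' : (z ^ i) • o2 = o := this
          rw [← this', ← mul_smul, ← pow_add, ← hzmod, show ((11 - i % 11) % 11 + i) % 11 = 0 by omega, pow_zero,
            one_smul]
      rw [if_neg h0, Finset.card_eq_zero.2 (Finset.filter_eq_empty_iff.2 fun j _ => ?_)]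
      fin_cases j <;> exact h1 _ _ (by norm_num)
    · have hd := hG.row_dvd hvd
      have hrow : row G v o = (if cl G o o2 = v then 1 else 0) + 5 * (Finset.univ.filter fun j => c j = v).card := by
        have e1 : row G v o = (Finset.univ.filter fun p : Fin 11 × Bool => cl G o (pt p) = v).card := by
          rw [row]
          exact (Finset.card_equiv (Equiv.ofBijective pt hpt) fun p => by simp).symm
        have e2 : ∀ b, (Finset.univ.filter fun i : Fin 11 => cl G o (pt (i, b)) = v).card =
            (if cl G o (base b) = v then 1 else 0) + 5 * (if rep true b = v then 1 else 0) +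
              5 * (if rep false b = v then 1 else 0) := fun b => by
          rw [← card_filter_eleven, Finset.filter_congr fun i _ => by rw [hcl]]
        have hbf : cl G o (base false) ≠ v := fun e => hvd e.symm
        rw [e1, Finset.card_filter, Fintype.sum_prod_type_right, Fintype.sum_bool, ← Finset.card_filter,
          ← Finset.card_filter, e2, e2, if_neg hbf, Finset.card_filter, Fin.sum_univ_four]
        simp only [c, Matrix.cons_val_zero, Matrix.cons_val_one, Matrix.cons_val, base, if_true]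
        split_ifs <;> simp [*]
      rw [← hrow]
      exact Nat.mod_eq_zero_of_dvd hd)
  haveI : Fintype (OrbQ G) := Fintype.ofFinite _
  rw [Nat.card_eq_fintype_card]
  refine (Finset.card_le_card (s := Finset.univ) (t := {cl G o o, cl G o o2, v}) fun x _ => ?_).trans Finset.card_le_three
  induction x using Quotient.inductionOn' with
  | h p =>
    obtain ⟨g, hg⟩ := hG.trans.exists_smul_eq p.1 o
    have hx : (Quotient.mk'' p : OrbQ G) = cl G o (g • p.2) := by
      rw [← hg]; exact (cl_smul G g p.1 p.2).symm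
    obtain ⟨⟨i, b⟩, hp⟩ := hpt.2 (g • p.2)
    rw [hx, ← hp, hcl]
    simp only [Finset.mem_insert, Finset.mem_singleton]
    have hc := fun j => hv j
    by_cases hi : i = 0
    · rw [if_pos hi]; rcases b with _ | _
      · exact Or.inl rfl
      · exact Or.inr (Or.inl rfl)
    rw [if_neg hi]
    refine Or.inr ?_
    cases sq11 i <;> cases b
    exacts [hc 1, hc 3, hc 0, hc 2]

end CfsgLib.SylowNumbers.TwentyTwo
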