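import Cfsg.Agent.Lib.SylowNumbers.TwentyTwo.Five
import Cfsg.Agent.Lib.SylowNumbers.TwentyTwo.Algebra

/-!
No finite group has 22 Sylow `3`-subgroups.
-/

set_option autoImplicit false

namespace CfsgLib.SylowNumbers.TwentyTwo

open MulAction
open scoped Pointwise

theorem Hyp.false {α : Type*} [Fintype α] [DecidableEq α] {G : Subgroup (Equiv.Perm α)} (hG : Hyp G) : False := by
  obtain ⟨z, hz⟩ := hG.exists_eleven
  rcases hG.exists_normalizing hz with ⟨w, hw⟩ | ⟨w, r, hw, hr, hr5, e, he⟩
  · exact hG.false_of_orbitals_le (hG.orbitals_le_of_inverting hz hw)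
  · exact hG.false_of_orbitals_le (hG.orbitals_le_of_five hz hw hr hr5 he)

universe u

/-- Reduction to a faithful action without proper normal subgroups of index prime to `p`. -/
theorem reduce' (p n : ℕ) [hp : Fact p.Prime]
    (H : ∀ (G : Type u) [Group G] [Finite G], Nat.card (Sylow p G) = n → FaithfulSMul G (Sylow p G) →
      (∀ N : Subgroup G, N.Normal → ¬ p ∣ N.index → N = ⊤) → False) :
    ∀ (G : Type u) [Group G] [Finite G], Nat.card (Sylow p G) ≠ n := by
  suffices key : ∀ m, ∀ (G : Type u) [Group G] [Finite G], Nat.card G = m →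
      Nat.card (Sylow p G) ≠ n from fun G _ _ => key _ G rfl
  intro m
  induction m using Nat.strong_induction_on with
  | _ m ih =>
    intro G _ _ hm hc
    by_cases hN : ∀ N : Subgroup G, N.Normal → ¬ p ∣ N.index → N = ⊤
    · by_cases hf : FaithfulSMul G (Sylow p G)
      · exact H G hc hf hN
      · let φ := MulAction.toPermHom G (Sylow p G)
        have hK : φ.ker ≠ ⊥ := fun h => hf ⟨fun {a b} hab => by
          have hinj := (MonoidHom.ker_eq_bot_iff φ).1 h
          exact hinj (Equiv.ext hab)⟩
        have hsurj : Function.Surjective (QuotientGroup.mk' φ.ker) := QuotientGroup.mk'_surjective _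
        have hcard : Nat.card (G ⧸ φ.ker) < m := by
          rw [← hm, Subgroup.card_eq_card_quotient_mul_card_subgroup φ.ker]
          exact lt_mul_of_one_lt_right Nat.card_pos ((Subgroup.one_lt_card_iff_ne_bot _).2 hK)
        refine ih _ hcard (G ⧸ φ.ker) rfl ((Nat.card_eq_of_bijective
          (fun P : Sylow p G => P.mapSurjective hsurj) ⟨?_, Sylow.mapSurjective_surjective hsurj p⟩).symm.trans hc)
        intro P Q hPQ
        have h1 := congrArg (fun R : Sylow p (G ⧸ φ.ker) => R.toSubgroup) hPQ
        simp only [Sylow.coe_mapSurjective] at h1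
        have h2 : (Q : Subgroup G) ≤ Subgroup.normalizer ((P : Subgroup G) : Set G) := by
          intro x hx
          have hx' : QuotientGroup.mk' φ.ker x ∈ (P : Subgroup G).map (QuotientGroup.mk' φ.ker) := by
            rw [h1]; exact ⟨x, hx, rfl⟩
          obtain ⟨y, hy, hxy⟩ := hx'
          have hk : y⁻¹ * x ∈ φ.ker := QuotientGroup.eq.1 hxy
          have hk' : (y⁻¹ * x) • P = P := Equiv.congr_fun (MonoidHom.mem_ker.1 hk) P
          have hy' : y • P = P := Sylow.smul_eq_iff_mem_normalizer.2 (Subgroup.le_normalizer hy)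
          refine Sylow.smul_eq_iff_mem_normalizer.1 ?_
          rw [← mul_inv_cancel_left y x, mul_smul, hk', hy']
        have h3 := Q.2.inf_normalizer_sylow P
        exact Sylow.ext (Q.3 P.2 ((le_inf le_rfl h2).trans (h3.le.trans inf_le_right)))
    · push Not at hN
      obtain ⟨N, hNn, hNi, hNt⟩ := hN
      have : N.Normal := hNn
      have hlt : Nat.card N < m := by
        rw [← hm]
        exact lt_of_le_of_ne (Nat.le_of_dvd Nat.card_pos N.card_subgroup_dvd_card)
          (fun he => hNt (Subgroup.card_eq_iff_eq_top N |>.1 he))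
      exact ih _ hlt N rfl ((card_sylow_of_normal hNi).trans hc)

theorem card_sylow_three_ne (G : Type u) [Group G] [Finite G] : Nat.card (Sylow 3 G) ≠ 22 := by
  haveI : Fact (Nat.Prime 3) := ⟨by norm_num⟩
  refine reduce' 3 22 (fun G _ _ hc hf htop => ?_) G
  classical
  haveI : Fintype (Sylow 3 G) := Fintype.ofFinite _
  let φ := MulAction.toPermHom G (Sylow 3 G)
  have hsurj := φ.rangeRestrict_surjective
  have hinj : Function.Injective φ.rangeRestrict := fun a b hab =>
    hf.eq_of_smul_eq_smul fun P : Sylow 3 G => Equiv.congr_fun (congrArg Subtype.val hab) P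
  refine Hyp.false (α := Sylow 3 G) (G := φ.range) ⟨?_, ?_, ?_, ?_⟩
  · rw [← Nat.card_eq_fintype_card, hc]
  · refine ⟨fun P Q => ?_⟩
    obtain ⟨g, hg⟩ := MulAction.exists_smul_eq G P Q
    exact ⟨φ.rangeRestrict g, hg⟩
  · intro N hN hi
    have := htop (N.comap φ.rangeRestrict) (hN.comap _) (by rwa [Subgroup.index_comap_of_surjective _ hsurj])
    refine (Subgroup.eq_top_iff' N).2 fun x => ?_
    obtain ⟨g, rfl⟩ := hsurj x
    exact (this ▸ Subgroup.mem_top g : g ∈ N.comap φ.rangeRestrict)
  · intro P
    refine ⟨P.mapSurjective hsurj, ?_, fun Q hQ => ?_⟩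
    · ext x
      obtain ⟨g, rfl⟩ := hsurj x
      show g • P = P ↔ _
      rw [Subgroup.mem_normalizer_iff]
      refine Sylow.smul_eq_iff_mem_normalizer.trans ?_
      show g ∈ Subgroup.normalizer ((P : Subgroup G) : Set G) ↔ _
      rw [Subgroup.mem_normalizer_iff]
      constructor
      · intro h y
        obtain ⟨a, rfl⟩ := hsurj y
        rw [← map_inv, ← map_mul, ← map_mul]
        simp only [Sylow.coe_mapSurjective, Subgroup.mem_map_iff_mem hinj]
        exact h a
      · intro h a
        have := h (φ.rangeRestrict a)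
        rw [← map_inv, ← map_mul, ← map_mul] at this
        simpa only [Sylow.coe_mapSurjective, Subgroup.mem_map_iff_mem hinj] using this
    · have h2 : (P : Subgroup G) ≤ Subgroup.normalizer ((Q : Subgroup G) : Set G) := fun u hu =>
        Sylow.smul_eq_iff_mem_normalizer.1 (hQ (φ.rangeRestrict u) (by
          rw [Sylow.coe_mapSurjective]; exact ⟨u, hu, rfl⟩))
      exact (Sylow.ext (P.3 Q.2 ((le_inf le_rfl h2).trans ((P.2.inf_normalizer_sylow Q).le.trans inf_le_right))))

end CfsgLib.SylowNumbers.TwentyTwo
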