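import Mathlib

/-!
A permutation group of degree 7 with order dividing 560 and divisible by 35 does not exist.
-/

set_option autoImplicit false

namespace CfsgLib.SylowNumbers.TwentyTwo

open Equiv

theorem isCycle_of_orderOf_seven {β : Type*} [Fintype β] [DecidableEq β] (h7 : Fintype.card β = 7)
    {c : Perm β} (hc : orderOf c = 7) : c.IsCycle ∧ c.support = Finset.univ := by
  obtain ⟨n, hn⟩ := Perm.cycleType_prime_order (σ := c) (by rw [hc]; norm_num)
  rw [hc] at hn
  have hsum : c.support.card = (n + 1) * 7 := by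
    rw [← Perm.sum_cycleType, hn, Multiset.sum_replicate, smul_eq_mul]
  have hle : c.support.card ≤ 7 := h7 ▸ Finset.card_le_univ c.support
  have hn0 : n = 0 := by omega
  subst hn0
  exact ⟨Perm.card_cycleType_eq_one.1 (by rw [hn]; simp), Finset.eq_univ_of_card _ (by omega)⟩

theorem seven {β : Type*} [Fintype β] [DecidableEq β] (h7 : Fintype.card β = 7) (R : Subgroup (Perm β))
    (x : R) (hx : orderOf x = 7) (hR : Nat.card R ∣ 560) (h5 : 5 ∣ Nat.card R) : False := by
  haveI : Fact (Nat.Prime 7) := ⟨by norm_num⟩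
  haveI : Fact (Nat.Prime 5) := ⟨by norm_num⟩
  obtain ⟨m, hm⟩ : 7 ∣ Nat.card R := hx ▸ orderOf_dvd_natCard x
  have hm80 : m ∣ 80 := by
    refine (Nat.mul_dvd_mul_iff_left (by norm_num : 0 < 7)).1 ?_
    rw [← hm]; exact hR
  have hm0 : m ≠ 0 := by rintro rfl; exact (Nat.card_pos (α := R)).ne' (by simpa using hm)
  have h7m : ¬ 7 ∣ m := fun h => by
    have := h.trans hm80
    norm_num at this
  let S : Sylow 7 R := Sylow.ofCard (Subgroup.zpowers x) (by
    rw [Nat.card_zpowers, hx, hm, Nat.factorization_mul (by norm_num) hm0, Finsupp.add_apply,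
      Nat.Prime.factorization_self (by norm_num), Nat.factorization_eq_zero_of_not_dvd h7m, pow_one])
  set N := Subgroup.normalizer ((S : Subgroup R) : Set R)
  have hidx : N.index ∣ 80 ∧ N.index % 7 = 1 := by
    refine ⟨?_, ?_⟩
    · refine dvd_trans ?_ hm80
      have h1 : (S : Subgroup R).index = m := by
        have := Subgroup.card_mul_index (S : Subgroup R)
        rw [hm, show (S : Subgroup R) = Subgroup.zpowers x from rfl, Nat.card_zpowers, hx] at this
        exact mul_left_cancel₀ (by norm_num) this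
      exact h1 ▸ Subgroup.index_dvd_of_le Subgroup.le_normalizer
    · have h := card_sylow_modEq_one 7 R
      rw [S.card_eq_index_normalizer] at h
      exact h
  have h5i : ¬ 5 ∣ N.index := by
    obtain ⟨h1, h2⟩ := hidx
    have h3 : N.index ∈ (80 : ℕ).divisors := Nat.mem_divisors.2 ⟨h1, by norm_num⟩
    generalize N.index = n at h2 h3
    intro h5n
    have key : ∀ k ∈ (80 : ℕ).divisors, k % 7 = 1 → ¬ 5 ∣ k := by decide
    exact key n h3 h2 h5n
  have h5N : 5 ∣ Nat.card N := by
    have := Subgroup.card_mul_index N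
    exact ((Nat.Prime.dvd_mul (by norm_num)).1 (this.symm ▸ h5)).resolve_right h5i
  obtain ⟨y, hy⟩ := exists_prime_orderOf_dvd_card' 5 h5N
  have hyx : (y : R) * x * (y : R)⁻¹ ∈ Subgroup.zpowers x :=
    (Subgroup.mem_normalizer_iff.1 y.2 x).1 (Subgroup.mem_zpowers x)
  obtain ⟨r, hr, hyr⟩ := Finset.mem_image.1 (mem_zpowers_iff_mem_range_orderOf.1 hyx)
  rw [hx, Finset.mem_range] at hr
  have hy5 : (y : R) ^ 5 = 1 := by
    rw [← Subgroup.coe_pow, ← hy, pow_orderOf_eq_one, Subgroup.coe_one]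
  have hpow : ∀ k : ℕ, (y : R) ^ k * x * ((y : R) ^ k)⁻¹ = x ^ (r ^ k) := by
    intro k
    induction k with
    | zero => simp
    | succ k ih =>
      rw [pow_succ', show (y : R) * y ^ k * x * ((y : R) * y ^ k)⁻¹ = y * (y ^ k * x * ((y : R) ^ k)⁻¹) * (y : R)⁻¹ by group,
        ih, ← conj_pow, ← hyr, ← pow_mul, pow_succ']
  have h15 := hpow 5
  rw [hy5, inv_one, one_mul, mul_one] at h15
  have hr1 : r = 1 := by
    have h := pow_eq_pow_iff_modEq.1 (((pow_one x).trans h15) : x ^ 1 = x ^ (r ^ 5))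
    rw [hx] at h
    unfold Nat.ModEq at h
    interval_cases r <;> revert h <;> norm_num
  subst hr1
  rw [pow_one] at hyr
  have hc : orderOf (x : Perm β) = 7 := by rw [Subgroup.orderOf_coe, hx]
  obtain ⟨hcyc, hsupp⟩ := isCycle_of_orderOf_seven h7 hc
  have hne : ∀ a, (x : Perm β) a ≠ a := fun a => Perm.mem_support.1 (hsupp ▸ Finset.mem_univ a)
  have hcomm : Commute ((y : R) : Perm β) (x : Perm β) := by
    have : (y : R) * x = x * y := by
      calc (y : R) * x = y * x * (y : R)⁻¹ * y := by group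
        _ = x * y := by rw [← hyr]
    exact congrArg Subtype.val this
  obtain ⟨a⟩ : Nonempty β := Fintype.card_pos_iff.1 (by rw [h7]; norm_num)
  obtain ⟨i, hi⟩ := hcyc.exists_pow_eq (hne a) (hne (((y : R) : Perm β) a))
  have heq : ((y : R) : Perm β) = (x : Perm β) ^ i := by
    refine Equiv.ext fun b => ?_
    obtain ⟨j, rfl⟩ := hcyc.exists_pow_eq (hne a) (hne b)
    rw [← Perm.mul_apply, (hcomm.pow_right j).eq, Perm.mul_apply, ← hi, ← Perm.mul_apply, ← pow_add,
      add_comm, pow_add, Perm.mul_apply]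
  have hdvd : orderOf ((y : R) : Perm β) ∣ 7 := by
    rw [heq]; exact (orderOf_pow_dvd i).trans (hc ▸ dvd_rfl)
  rw [Subgroup.orderOf_coe, Subgroup.orderOf_coe, hy] at hdvd
  norm_num at hdvd

end CfsgLib.SylowNumbers.TwentyTwo
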