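import Cfsg.Agent.Lib.SylowNumbers.TwentyTwo.TwoTrans

/-!
The doubly transitive case with Sylow `3`-subgroups of order three, and the conclusion that the group is not
doubly transitive.
-/

set_option autoImplicit false

namespace CfsgLib.SylowNumbers.TwentyTwo

open Equiv Subgroup MulAction
open scoped Pointwise

variable {α : Type*} [Fintype α] [DecidableEq α] {G : Subgroup (Perm α)}
variable {o : α} {P : Sylow 3 G} (L : Loc G o P)

include L

theorem Loc.exists_gen (h3 : Nat.card (P : Subgroup G) = 3) :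
    ∃ u ∈ (P : Subgroup G), u ^ 3 = 1 ∧ (∀ a, a ≠ o → u • a ≠ a) ∧ ∀ v ∈ (P : Subgroup G), ∃ i : ℕ, i < 3 ∧ u ^ i = v := by
  classical
  haveI : Fact (Nat.Prime 3) := ⟨by norm_num⟩
  obtain ⟨⟨u, hu⟩, hord⟩ := exists_prime_orderOf_dvd_card' (G := (P : Subgroup G)) 3 (by rw [h3])
  rw [Subgroup.orderOf_mk] at hord
  have heq : Subgroup.zpowers u = (P : Subgroup G) :=
    Subgroup.eq_of_le_of_card_ge (Subgroup.zpowers_le.2 hu) (by rw [h3, Nat.card_zpowers, hord])
  have hgen : ∀ v ∈ (P : Subgroup G), ∃ i : ℕ, i < 3 ∧ u ^ i = v := by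
    intro v hv
    rw [← heq] at hv
    obtain ⟨i, hi, hiv⟩ := Finset.mem_image.1 (mem_zpowers_iff_mem_range_orderOf.1 hv)
    exact ⟨i, hord ▸ Finset.mem_range.1 hi, hiv⟩
  refine ⟨u, hu, by rw [← hord]; exact pow_orderOf_eq_one u, fun a ha e => ha (L.only a fun v hv => ?_), hgen⟩
  obtain ⟨i, -, rfl⟩ := hgen v hv
  exact pow_fix e i

theorem Loc.ker_act_le (h3 : Nat.card (P : Subgroup G) = 3) (g : stabilizer G o) (hg : L.act g = 1) :
    (g : G) ∈ (P : Subgroup G) := by
  classical
  obtain ⟨u, hu, hu3, hfree, hgen⟩ := L.exists_gen h3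
  set k : G := (g : G) with hkd
  have hko : k • o = o := g.2
  have hk : k ∈ normalizer ((P : Subgroup G) : Set G) := L.fix_iff.1 hko
  have hact : ∀ a, a ≠ o → ∃ i : ℕ, k • a = (u ^ i) • a := by
    intro a ha
    obtain ⟨v, hv, hva⟩ := mem_orbit_sub.1 (L.act_fixed hg ha)
    obtain ⟨i, -, rfl⟩ := hgen v hv
    exact ⟨i, hva.symm⟩
  obtain ⟨r, hr, hkr⟩ := hgen _ ((Subgroup.mem_normalizer_iff.1 hk u).1 hu)
  have hmove : ∀ n : ℕ, k * u ^ n = u ^ (r * n) * k := by
    intro n
    rw [pow_mul, hkr, conj_pow, inv_mul_cancel_right]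
  have hmod : ∀ (n : ℕ) (b : α), (u ^ (3 * n)) • b = b := fun n b => by rw [pow_mul, hu3, one_pow, one_smul]
  interval_cases r
  · exfalso
    rw [pow_zero] at hkr
    have hu1 : u = 1 := by
      calc u = k⁻¹ * (k * u * k⁻¹) * k := by group
        _ = 1 := by rw [← hkr]; group
    obtain ⟨a, ha⟩ : ∃ a, a ≠ o := Fintype.exists_ne_of_one_lt_card (by rw [L.hyp.card]; norm_num) o
    exact hfree a ha (by rw [hu1, one_smul])
  · -- `k` centralizes `P`
    have hk3 : k ^ 3 = 1 := by
      refine Subtype.ext (Equiv.ext fun a => ?_)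
      show (k ^ 3) • a = a
      rcases eq_or_ne a o with rfl | ha
      · exact pow_fix hko 3
      obtain ⟨i, hi⟩ := hact a ha
      have hn : ∀ m : ℕ, (k ^ m) • a = (u ^ (i * m)) • a := by
        intro m
        induction m with
        | zero => simp
        | succ m ih =>
          rw [pow_succ', mul_smul, ih, ← mul_smul, hmove, mul_smul, hi, ← mul_smul, ← pow_add]
          congr 2; ring
      rw [hn, mul_comm, hmod]
    have hz : IsPGroup 3 (Subgroup.zpowers k) := by
      obtain ⟨j, -, hj⟩ := (Nat.dvd_prime_pow (show Nat.Prime 3 by norm_num)).1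
        (show orderOf k ∣ 3 ^ 1 by rw [pow_one]; exact orderOf_dvd_of_pow_eq_one hk3)
      exact IsPGroup.of_card (n := j) (by rw [Nat.card_zpowers, hj])
    have h5 := hz.inf_normalizer_sylow P
    have h6 : Subgroup.zpowers k ⊓ normalizer ((P : Subgroup G) : Set G) = Subgroup.zpowers k :=
      inf_eq_left.2 (Subgroup.zpowers_le.2 hk)
    exact ((h6.symm.trans h5).le (Subgroup.mem_zpowers _)).2
  · -- `k` inverts `P`: it is an odd permutation
    exfalso
    have hmv : ∀ (n : ℕ) (b : α), k • (u ^ n) • b = (u ^ (2 * n)) • k • b := fun n b => by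
      rw [← mul_smul, hmove, mul_smul]
    have hk2 : ∀ a : α, k • k • a = a := by
      intro a
      rcases eq_or_ne a o with rfl | ha
      · rw [hko, hko]
      obtain ⟨i, hi⟩ := hact a ha
      rw [hi, hmv, hi, ← mul_smul, ← pow_add, show 2 * i + i = 3 * i by ring, hmod]
    let F := {b : α // b ≠ o ∧ k • b = b}
    have hF : Nat.card F = 7 := by
      rw [← L.card_blk]
      refine Nat.card_eq_of_bijective (fun b : F => (⟨_, b.1, b.2.1, rfl⟩ : Blk G o P)) ⟨?_, ?_⟩
      · rintro ⟨b, hb, hkb⟩ ⟨c, hc, hkc⟩ h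
        have hmem : c ∈ orbit (P : Subgroup G) b := by
          have h' : orbit (P : Subgroup G) b = orbit (P : Subgroup G) c := congrArg Subtype.val h
          rw [h']; exact MulAction.mem_orbit_self c
        obtain ⟨v, hv, rfl⟩ := mem_orbit_sub.1 hmem
        obtain ⟨j, hj, rfl⟩ := hgen v hv
        rw [hmv, hkb, two_mul, pow_add, mul_smul] at hkc
        have hjb : (u ^ j) • b = b := smul_left_cancel _ hkc
        exact Subtype.ext hjb.symm
      · rintro ⟨T, a, ha, rfl⟩
        obtain ⟨i, hi⟩ := hact a ha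
        refine ⟨⟨(u ^ (2 * i)) • a, ?_, ?_⟩, Subtype.ext ?_⟩
        · intro e; exact L.not_mem_orbit ha (e ▸ mem_orbit_sub.2 ⟨_, pow_mem hu _, rfl⟩)
        · rw [hmv, hi, ← mul_smul, ← pow_add,
            show 2 * (2 * i) + i = 2 * i + 3 * i by ring, pow_add, mul_smul, hmod]
        · exact MulAction.orbit_eq_iff.2 (mem_orbit_sub.2 ⟨_, pow_mem hu _, rfl⟩)
    set κ : Perm α := (k : Perm α)
    have hsupp : κ.support = Finset.univ \ insert o (Finset.univ.filter fun b => b ≠ o ∧ k • b = b) := by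
      ext b
      simp only [Perm.mem_support, Finset.mem_sdiff, Finset.mem_univ, true_and, Finset.mem_insert,
        Finset.mem_filter]
      refine ⟨fun h => ?_, fun h e => h ?_⟩
      · rintro (rfl | ⟨-, e⟩)
        · exact h hko
        · exact h e
      · rcases eq_or_ne b o with hb | hb
        · exact Or.inl hb
        · exact Or.inr ⟨hb, e⟩
    have hcard : κ.support.card = 14 := by
      rw [hsupp, Finset.card_univ_diff, Finset.card_insert_of_notMem (by simp), L.hyp.card,
        ← Fintype.card_subtype, ← Nat.card_eq_fintype_card, hF]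
    have hord : orderOf κ = 2 := by
      refine orderOf_eq_prime (Equiv.ext fun a => hk2 a) fun e => ?_
      rw [e, Perm.support_one, Finset.card_empty] at hcard
      norm_num at hcard
    obtain ⟨n, hn⟩ := Perm.cycleType_prime_order (σ := κ) (by rw [hord]; norm_num)
    rw [hord] at hn
    have hn6 : n = 6 := by
      have h := Perm.sum_cycleType κ
      rw [hn, Multiset.sum_replicate, smul_eq_mul, hcard] at h
      omega
    have hsign := L.hyp.sign_eq_one k
    rw [Perm.sign_of_cycleType, hn, hn6] at hsign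
    simp at hsign
    exact absurd hsign (by decide)

theorem Loc.card_stab (h3 : Nat.card (P : Subgroup G) = 3) :
    Nat.card (stabilizer G o) = 3 * Nat.card L.act.range := by
  classical
  rw [← Subgroup.card_mul_index L.act.ker, Subgroup.index_ker]
  congr 1
  rw [← h3]
  refine Nat.card_congr
    { toFun := fun g => ⟨(g.1 : G), L.ker_act_le h3 g.1 g.2⟩
      invFun := fun u => ⟨⟨u.1, L.fix u.2⟩, Equiv.ext fun T => Subtype.ext ?_⟩
      left_inv := fun g => rfl
      right_inv := fun u => rfl }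
  obtain ⟨a, -, hT⟩ := T.2
  show (fun x => (u : G) • x) '' T.1 = T.1
  rw [hT, L.image_orbit (L.fix u.2)]
  exact MulAction.orbit_eq_iff.2 (mem_orbit_sub.2 ⟨u, u.2, rfl⟩)

theorem Loc.false_of_three (h3 : Nat.card (P : Subgroup G) = 3) : False := by
  classical
  haveI : Fact (Nat.Prime 3) := ⟨by norm_num⟩
  haveI : Fact (Nat.Prime 11) := ⟨by norm_num⟩
  haveI : Fintype (Blk G o P) := Fintype.ofFinite _
  set R := L.act.range
  have hG := L.hyp
  have hcardG : Nat.card G = 22 * (3 * Nat.card R) := by rw [hG.card_eq o, L.card_stab h3]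
  have hR3 : ¬ 3 ∣ Nat.card R := by
    intro hd
    have h9 : 3 ^ 2 ∣ Nat.card G := by
      rw [hcardG]; exact dvd_mul_of_dvd_right (show 3 ^ 2 ∣ 3 * Nat.card R from (by norm_num : (3 : ℕ) ^ 2 = 3 * 3) ▸ mul_dvd_mul_left 3 hd) _
    have := Nat.le_of_dvd (by rw [h3]; norm_num) (P.pow_dvd_card_of_pow_dvd_card h9)
    rw [h3] at this
    norm_num at this
  obtain ⟨x, -, hax⟩ := L.exists_seven
  have h7 : Fintype.card (Blk G o P) = 7 := by rw [← Nat.card_eq_fintype_card, L.card_blk]
  have hR560 : Nat.card R ∣ 560 := by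
    have h1 : Nat.card R ∣ 9 * 560 := by
      refine (Subgroup.card_subgroup_dvd_card R).trans (dvd_of_eq ?_)
      rw [Nat.card_perm, L.card_blk]
      rfl
    have hc : Nat.Coprime (Nat.card R) 9 :=
      Nat.Coprime.pow_right 2 ((Nat.Prime.coprime_iff_not_dvd (by norm_num)).2 hR3).symm
    exact hc.dvd_of_dvd_mul_left h1
  have h7R : 7 ∣ Nat.card R := by
    have := orderOf_dvd_natCard (⟨L.act x, x, rfl⟩ : R)
    rwa [← Subgroup.orderOf_coe, hax] at this
  -- counting the Sylow `11`-subgroups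
  obtain ⟨z, hz⟩ := hG.exists_eleven
  obtain ⟨S, hS⟩ := hG.zpowers_sylow hz
  set N := normalizer ((Subgroup.zpowers z : Subgroup G) : Set G) with hN
  obtain ⟨d, hd⟩ : 11 ∣ Nat.card N := by
    have := Subgroup.card_dvd_of_le (Subgroup.le_normalizer (H := Subgroup.zpowers z))
    rwa [Nat.card_zpowers, hz] at this
  have hd10 : d ∣ 10 := by
    have := hG.card_normalizer_dvd hz
    rw [← hN, hd] at this
    exact (Nat.mul_dvd_mul_iff_left (by norm_num : 0 < 11)).1 this
  have hd1 : d ≠ 1 := by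
    rintro rfl
    have heq : Subgroup.zpowers z = N := Subgroup.eq_of_le_of_card_ge Subgroup.le_normalizer
      (by rw [hd, Nat.card_zpowers, hz])
    have key : ∀ w : G, ∀ r : ℕ, w * z * w⁻¹ = z ^ r → r % 11 ≠ 0 → r % 11 = 1 := by
      intro w r hw hr0
      have hwN : w ∈ N := by
        refine Subgroup.mem_normalizer_fintype fun h hh => ?_
        obtain ⟨i, rfl⟩ := Subgroup.mem_zpowers_iff.1 hh
        rw [← conj_zpow, hw]
        exact Subgroup.zpow_mem _ (Subgroup.pow_mem _ (Subgroup.mem_zpowers z) r) i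
      rw [← heq] at hwN
      obtain ⟨i, rfl⟩ := Subgroup.mem_zpowers_iff.1 hwN
      have h1 : z ^ 1 = z ^ r := by
        rw [pow_one, ← hw]; group
      have := pow_eq_pow_iff_modEq.1 h1
      rw [hz] at this
      exact this.symm
    rcases hG.exists_normalizing hz with ⟨w, hw⟩ | ⟨w, r, hw, hr, hr5, -⟩
    · have := key w 10 (by
        rw [hw, inv_eq_iff_mul_eq_one, ← pow_succ', show 10 + 1 = orderOf z by rw [hz]]
        exact pow_orderOf_eq_one z) (by norm_num)
      norm_num at this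
    · refine hr (key w r hw fun h0 => ?_)
      rw [Nat.pow_mod, h0] at hr5
      norm_num at hr5
  have hn := Subgroup.card_mul_index N
  rw [hd, hcardG] at hn
  have hmod : N.index % 11 = 1 := by
    have h := card_sylow_modEq_one 11 G
    rw [S.card_eq_index_normalizer] at h
    have hNS : normalizer ((S : Subgroup G) : Set G) = N := by rw [hN, hS]
    rw [← hNS]
    exact h
  obtain ⟨m, hm⟩ := h7R
  have hm80 : m ∣ 80 := by
    refine (Nat.mul_dvd_mul_iff_left (by norm_num : 0 < 7)).1 ?_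
    rw [← hm]; exact hR560
  have h5 : 5 ∣ m := by
    have key : ∀ k ∈ (80 : ℕ).divisors, ∀ e ∈ (10 : ℕ).divisors, e ≠ 1 →
        e ∣ 42 * k → 42 * k / e % 11 = 1 → 5 ∣ k := by decide
    have heq : 42 * m = d * N.index := by
      rw [hm] at hn; linarith
    have hd0 : 0 < d := Nat.pos_of_dvd_of_pos hd10 (by norm_num)
    exact key m (Nat.mem_divisors.2 ⟨hm80, by norm_num⟩) d (Nat.mem_divisors.2 ⟨hd10, by norm_num⟩) hd1
      ⟨N.index, heq⟩ (by rw [heq, Nat.mul_div_cancel_left _ hd0]; exact hmod)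
  exact seven h7 R ⟨L.act x, x, rfl⟩ ((Subgroup.orderOf_coe _).symm.trans hax) hR560
    (hm ▸ dvd_mul_of_dvd_right h5 7)

omit L

/-- The group is not doubly transitive. -/
theorem Hyp.not_two_trans (hG : Hyp G)
    (h2 : ∀ o a b : α, a ≠ o → b ≠ o → ∃ g : G, g • o = o ∧ g • a = b) : False := by
  haveI : Fact (Nat.Prime 3) := ⟨by norm_num⟩
  have hloc : ∀ o : α, ∃ P : Sylow 3 G, Loc G o P := fun o => by
    obtain ⟨P, hP, honly⟩ := hG.pcore o
    exact ⟨P, hG, h2 o, hP, honly⟩
  refine false_of_big (G := G) (fun o => ?_) hG.card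
  obtain ⟨P, L⟩ := hloc o
  exact ⟨P, L, L.card_cases.resolve_left L.false_of_three⟩

end CfsgLib.SylowNumbers.TwentyTwo
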