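import Cfsg.Agent.Lib.SylowNumbers.TwentyTwo.Basic
import Cfsg.Agent.Lib.SylowNumbers.TwentyTwo.Seven

/-!
The doubly transitive case: the normal `3`-subgroup of a point stabilizer has seven orbits of size three,
and the stabilizer contains an element of order seven permuting them cyclically.
-/

set_option autoImplicit false

namespace CfsgLib.SylowNumbers.TwentyTwo

open Equiv Subgroup MulAction
open scoped Pointwise

theorem card_eq_mul_of_fibers {ι κ : Type*} [DecidableEq κ] (s : Finset ι) (f : ι → κ) (n : ℕ)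
    (h : ∀ i ∈ s, (s.filter fun j => f j = f i).card = n) : s.card = (s.image f).card * n := by
  rw [Finset.card_eq_sum_card_image f s, Finset.sum_const_nat]
  intro k hk
  obtain ⟨i, hi, rfl⟩ := Finset.mem_image.1 hk
  exact h i hi

variable {α : Type*} [Fintype α] [DecidableEq α]

/-- The situation at one point. -/
structure Loc (G : Subgroup (Perm α)) (o : α) (P : Sylow 3 G) : Prop where
  hyp : Hyp G
  two : ∀ a b : α, a ≠ o → b ≠ o → ∃ g : G, g • o = o ∧ g • a = b
  stab : stabilizer G o = normalizer ((P : Subgroup G) : Set G)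
  only : ∀ a : α, (∀ u ∈ (P : Subgroup G), u • a = a) → a = o

variable {G : Subgroup (Perm α)} {o : α} {P : Sylow 3 G} (L : Loc G o P)

omit [Fintype α] [DecidableEq α] in
theorem mem_orbit_sub {a b : α} :
    b ∈ orbit (P : Subgroup G) a ↔ ∃ u ∈ (P : Subgroup G), u • a = b :=
  ⟨fun ⟨u, hu⟩ => ⟨u, u.2, hu⟩, fun ⟨u, hu, h⟩ => ⟨⟨u, hu⟩, h⟩⟩

include L

theorem Loc.fix {u : G} (hu : u ∈ (P : Subgroup G)) : u • o = o := by
  have : u ∈ stabilizer G o := L.stab ▸ Subgroup.le_normalizer hu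
  exact this

theorem Loc.fix_iff {g : G} : g • o = o ↔ g ∈ normalizer ((P : Subgroup G) : Set G) := by
  rw [← L.stab]; rfl

theorem Loc.not_mem_orbit {a : α} (ha : a ≠ o) : o ∉ orbit (P : Subgroup G) a := by
  rintro ⟨⟨u, hu⟩, h⟩
  exact ha (smul_left_cancel u ((show u • a = o from h).trans (L.fix hu).symm))

theorem Loc.image_orbit {g : G} (hg : g • o = o) (a : α) :
    (fun x => g • x) '' orbit (P : Subgroup G) a = orbit (P : Subgroup G) (g • a) := by
  have hn := L.fix_iff.1 hg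
  refine Set.Subset.antisymm ?_ ?_
  · rintro _ ⟨b, hb, rfl⟩
    obtain ⟨u, hu, rfl⟩ := mem_orbit_sub.1 hb
    exact mem_orbit_sub.2 ⟨g * u * g⁻¹, (Subgroup.mem_normalizer_iff.1 hn u).1 hu, by
      rw [← mul_smul, inv_mul_cancel_right, mul_smul]⟩
  · intro b hb
    obtain ⟨u, hu, rfl⟩ := mem_orbit_sub.1 hb
    refine ⟨(g⁻¹ * u * g) • a, mem_orbit_sub.2 ⟨_, ?_, rfl⟩, ?_⟩
    · exact (Subgroup.mem_normalizer_iff''.1 hn u).1 hu
    · show g • (g⁻¹ * u * g) • a = u • g • a
      rw [mul_smul, mul_smul, smul_inv_smul]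

theorem Loc.ncard_orbit {a : α} (ha : a ≠ o) : (orbit (P : Subgroup G) a).ncard = 3 := by
  classical
  obtain ⟨k, hk⟩ := P.2.card_orbit (α := α) a
  rw [Nat.card_coe_set_eq] at hk
  have heq : ∀ b, b ≠ o → (orbit (P : Subgroup G) b).ncard = (orbit (P : Subgroup G) a).ncard := by
    intro b hb
    obtain ⟨g, hgo, rfl⟩ := L.two a b ha hb
    rw [← L.image_orbit hgo, Set.ncard_image_of_injective _ (MulAction.injective g)]
  have h21 := card_eq_mul_of_fibers (Finset.univ.erase o) (fun b => orbit (P : Subgroup G) b) (3 ^ k) (by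
    intro b hb
    rw [← hk, ← heq b (Finset.mem_erase.1 hb).1, ← Set.ncard_coe_finset]
    congr 1
    ext c
    simp only [Finset.coe_filter, Finset.mem_erase, Finset.mem_univ, and_true, Set.mem_setOf_eq]
    exact ⟨fun h => h.2 ▸ MulAction.mem_orbit_self c, fun h =>
      ⟨fun hc => L.not_mem_orbit (Finset.mem_erase.1 hb).1 (hc ▸ h), MulAction.orbit_eq_iff.2 h⟩⟩)
  rw [Finset.card_erase_of_mem (Finset.mem_univ o), Finset.card_univ, L.hyp.card] at h21
  have hd : 3 ^ k ∣ 21 := Dvd.intro_left _ h21.symm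
  rcases k with _ | _ | k
  · exfalso
    rw [pow_zero] at hk
    obtain ⟨c, hc⟩ := Set.ncard_eq_one.1 hk
    refine ha (L.only a fun u hu => ?_)
    have e1 : a ∈ ({c} : Set α) := hc ▸ MulAction.mem_orbit_self a
    have e2 : u • a ∈ ({c} : Set α) := hc ▸ mem_orbit_sub.2 ⟨u, hu, rfl⟩
    exact e2.trans e1.symm
  · rw [hk]; norm_num
  · exfalso
    have h9 : 9 ∣ 3 ^ (k + 1 + 1) := ⟨3 ^ k, by ring⟩
    have : 9 ∣ 21 := h9.trans hd
    norm_num at this

theorem Loc.odd_pow {u : G} (hu : u ∈ (P : Subgroup G)) : ∃ m : ℕ, (u ^ 2) ^ m = u := by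
  obtain ⟨k, hk⟩ := IsPGroup.iff_orderOf.1 P.2 ⟨u, hu⟩
  rw [Subgroup.orderOf_mk] at hk
  obtain ⟨m, hm⟩ : Odd (3 ^ k) := Odd.pow (by decide)
  refine ⟨m + 1, ?_⟩
  rw [← pow_mul, show 2 * (m + 1) = orderOf u + 1 by omega, pow_succ, pow_orderOf_eq_one, one_mul]

omit L [Fintype α] [DecidableEq α] in
theorem pow_fix {g : G} {a : α} (h : g • a = a) : ∀ n : ℕ, (g ^ n) • a = a
  | 0 => by rw [pow_zero, one_smul]
  | n + 1 => by rw [pow_succ, mul_smul, h, pow_fix h n]

theorem Loc.fix_of_sq {u : G} (hu : u ∈ (P : Subgroup G)) {b : α} (h : u • u • b = b) : u • b = b := by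
  obtain ⟨m, hm⟩ := L.odd_pow hu
  have h2 : (u ^ 2) • b = b := by rw [pow_two, mul_smul, h]
  have := pow_fix h2 m
  rwa [hm] at this

theorem Loc.fix_orbit {a b : α} (ha : a ≠ o) {u : G} (hu : u ∈ (P : Subgroup G)) (h : u • a = a)
    (hb : b ∈ orbit (P : Subgroup G) a) : u • b = b := by
  classical
  by_contra hne
  refine hne (L.fix_of_sq hu ?_)
  have hab : a ≠ b := fun e => hne (e ▸ h)
  have haub : a ≠ u • b := fun e => hab (smul_left_cancel u (h.trans e))
  have hub : u • b ∈ orbit (P : Subgroup G) a := by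
    rw [← MulAction.orbit_eq_iff.2 hb]; exact mem_orbit_sub.2 ⟨u, hu, rfl⟩
  have huub : u • u • b ∈ orbit (P : Subgroup G) a := by
    rw [← MulAction.orbit_eq_iff.2 hub]; exact mem_orbit_sub.2 ⟨u, hu, rfl⟩
  have h3 : ({a, b, u • b} : Set α) = orbit (P : Subgroup G) a := by
    refine Set.eq_of_subset_of_ncard_le ?_ (le_of_eq ?_)
    · rintro x (rfl | rfl | rfl)
      exacts [MulAction.mem_orbit_self _, hb, hub]
    · rw [L.ncard_orbit ha]
      exact (Set.ncard_eq_three.2 ⟨a, b, u • b, hab, haub, fun e => hne e.symm, rfl⟩).symm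
  rw [← h3] at huub
  rcases huub with e | e | e
  · exact absurd (smul_left_cancel u (e.trans h.symm)) (Ne.symm haub)
  · exact e
  · exact absurd (smul_left_cancel u e) hne

/-- On each orbit every element acts as a power of one of them. -/
theorem Loc.rep {a : α} (ha : a ≠ o) : ∃ w ∈ (P : Subgroup G), w • a ≠ a ∧
    (∀ b ∈ orbit (P : Subgroup G) a, (w ^ 3) • b = b) ∧
    ∀ v ∈ (P : Subgroup G), ∃ i : ℕ, ∀ b ∈ orbit (P : Subgroup G) a, v • b = (w ^ i) • b := by
  classical
  obtain ⟨w, hw, hwa⟩ : ∃ w ∈ (P : Subgroup G), w • a ≠ a := by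
    by_contra! h
    exact ha (L.only a h)
  have h1 : w • w • a ≠ a := fun h => hwa (L.fix_of_sq hw h)
  have h2 : w • w • a ≠ w • a := fun h => hwa (smul_left_cancel w h)
  have h3 : ({a, w • a, w • w • a} : Set α) = orbit (P : Subgroup G) a := by
    refine Set.eq_of_subset_of_ncard_le ?_ (le_of_eq ?_)
    · rintro x (rfl | rfl | rfl)
      · exact MulAction.mem_orbit_self _
      · exact mem_orbit_sub.2 ⟨w, hw, rfl⟩
      · exact mem_orbit_sub.2 ⟨w * w, mul_mem hw hw, mul_smul w w a⟩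
    · rw [L.ncard_orbit ha]
      exact (Set.ncard_eq_three.2 ⟨a, _, _, Ne.symm hwa, Ne.symm h1, Ne.symm h2, rfl⟩).symm
  have hwww : w • w • w • a = a := by
    have hm : w • w • w • a ∈ orbit (P : Subgroup G) a :=
      mem_orbit_sub.2 ⟨w * (w * w), mul_mem hw (mul_mem hw hw), by simp only [mul_smul]⟩
    rw [← h3] at hm
    rcases hm with e | e | e
    · exact e
    · exact absurd (smul_left_cancel w e) h1
    · exact absurd (smul_left_cancel w e) h2
  refine ⟨w, hw, hwa, fun b hb => L.fix_orbit ha (pow_mem hw 3) ?_ hb, fun v hv => ?_⟩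
  · simp only [pow_succ, pow_zero, one_mul, mul_smul, hwww]
  obtain ⟨i, hi⟩ : ∃ i : ℕ, v • a = (w ^ i) • a := by
    have hm : v • a ∈ orbit (P : Subgroup G) a := mem_orbit_sub.2 ⟨v, hv, rfl⟩
    rw [← h3] at hm
    rcases hm with e | e | e
    · exact ⟨0, by rw [pow_zero, one_smul]; exact e⟩
    · exact ⟨1, by rw [pow_one]; exact e⟩
    · exact ⟨2, by rw [pow_two, mul_smul]; exact e⟩
  refine ⟨i, fun b hb => ?_⟩
  have := L.fix_orbit ha (mul_mem (inv_mem (pow_mem hw i)) hv)
    (show ((w ^ i)⁻¹ * v) • a = a by rw [mul_smul, hi, inv_smul_smul]) hb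
  rw [mul_smul, inv_smul_eq_iff] at this
  exact this

theorem Loc.comm {u v : G} (hu : u ∈ (P : Subgroup G)) (hv : v ∈ (P : Subgroup G)) : u * v = v * u := by
  refine Subtype.ext (Equiv.ext fun a => ?_)
  show (u * v) • a = (v * u) • a
  rw [mul_smul, mul_smul]
  rcases eq_or_ne a o with rfl | ha
  · rw [L.fix hu, L.fix hv, L.fix hu]
  obtain ⟨w, hw, -, -, hr⟩ := L.rep ha
  obtain ⟨i, hi⟩ := hr u hu
  obtain ⟨j, hj⟩ := hr v hv
  have hm : ∀ k : ℕ, (w ^ k) • a ∈ orbit (P : Subgroup G) a := fun k => mem_orbit_sub.2 ⟨_, pow_mem hw k, rfl⟩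
  rw [hj a (MulAction.mem_orbit_self a), hi a (MulAction.mem_orbit_self a), hi _ (hm j), hj _ (hm i),
    ← mul_smul, ← mul_smul, pow_mul_comm]

/-- The seven orbits. -/
abbrev Blk (G : Subgroup (Perm α)) (o : α) (P : Sylow 3 G) : Type _ :=
  {T : Set α // ∃ a, a ≠ o ∧ T = orbit (P : Subgroup G) a}

theorem Loc.card_blk : Nat.card (Blk G o P) = 7 := by
  classical
  have h21 := card_eq_mul_of_fibers (Finset.univ.erase o) (fun b => orbit (P : Subgroup G) b) 3 (by
    intro b hb
    refine Eq.trans ?_ (L.ncard_orbit (Finset.mem_erase.1 hb).1)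
    rw [← Set.ncard_coe_finset]
    congr 1
    ext c
    simp only [Finset.coe_filter, Finset.mem_erase, Finset.mem_univ, and_true, Set.mem_setOf_eq]
    exact ⟨fun h => h.2 ▸ MulAction.mem_orbit_self c, fun h =>
      ⟨fun hc => L.not_mem_orbit (Finset.mem_erase.1 hb).1 (hc ▸ h), MulAction.orbit_eq_iff.2 h⟩⟩)
  rw [Finset.card_erase_of_mem (Finset.mem_univ o), Finset.card_univ, L.hyp.card] at h21
  rw [Nat.subtype_card ((Finset.univ.erase o).image fun b => orbit (P : Subgroup G) b) fun T => by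
    simp [eq_comm]]
  omega

theorem Loc.mem_blk_iff {g : G} (hg : g • o = o) (T : Set α) :
    (∃ a, a ≠ o ∧ T = orbit (P : Subgroup G) a) ↔
      ∃ a, a ≠ o ∧ (fun x => g • x) '' T = orbit (P : Subgroup G) a := by
  have hg' : g⁻¹ • o = o := inv_smul_eq_iff.2 hg.symm
  constructor
  · rintro ⟨a, ha, rfl⟩
    exact ⟨g • a, fun h => ha (smul_left_cancel g (h.trans hg.symm)), L.image_orbit hg a⟩
  · rintro ⟨a, ha, h⟩
    refine ⟨g⁻¹ • a, fun e => ha (smul_left_cancel g⁻¹ (e.trans hg'.symm)), ?_⟩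
    rw [← L.image_orbit hg', ← h, Set.image_image]
    simp

/-- The action of the stabilizer on the seven orbits. -/
def Loc.act : stabilizer G o →* Perm (Blk G o P) where
  toFun g := (Equiv.Set.congr (MulAction.toPerm (g : G))).subtypeEquiv fun T => L.mem_blk_iff g.2 T
  map_one' := by
    refine Equiv.ext fun T => Subtype.ext ?_
    show (fun x => (1 : G) • x) '' T.1 = T.1
    simp
  map_mul' g h := by
    refine Equiv.ext fun T => Subtype.ext ?_
    show (fun x => ((g : G) * h) • x) '' T.1 = (fun x => (g : G) • x) '' ((fun x => (h : G) • x) '' T.1)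
    rw [Set.image_image]
    simp [mul_smul]

theorem Loc.act_fixed {g : stabilizer G o} (h : L.act g = 1) {a : α} (ha : a ≠ o) :
    (g : G) • a ∈ orbit (P : Subgroup G) a := by
  have := congrArg Subtype.val (Equiv.congr_fun h ⟨_, a, ha, rfl⟩)
  have h2 : (fun x => (g : G) • x) '' orbit (P : Subgroup G) a = orbit (P : Subgroup G) a := this
  rw [← h2]
  exact ⟨a, MulAction.mem_orbit_self a, rfl⟩

theorem Loc.card_stab_dvd : 21 ∣ Nat.card (stabilizer G o) := by
  classical
  obtain ⟨a, ha⟩ : ∃ a, a ≠ o := Fintype.exists_ne_of_one_lt_card (by rw [L.hyp.card]; norm_num) o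
  have h : orbit (stabilizer G o) a = ((Finset.univ.erase o : Finset α) : Set α) := by
    ext b
    simp only [Finset.coe_erase, Finset.coe_univ, Set.mem_diff, Set.mem_univ, true_and, Set.mem_singleton_iff]
    refine ⟨?_, fun hb => ?_⟩
    · rintro ⟨g, rfl⟩ e
      exact ha (smul_left_cancel (g : G) (e.trans (g.2 : (g : G) • o = o).symm))
    · obtain ⟨g, hgo, hga⟩ := L.two a b ha hb
      exact ⟨⟨g, hgo⟩, hga⟩
  have hc : Nat.card (orbit (stabilizer G o) a) = 21 := by
    rw [Nat.card_coe_set_eq, h, Set.ncard_coe_finset, Finset.card_erase_of_mem (Finset.mem_univ o),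
      Finset.card_univ, L.hyp.card]
  rw [← hc, Nat.card_congr (MulAction.orbitEquivQuotientStabilizer (stabilizer G o) a)]
  exact Subgroup.card_quotient_dvd_card _

theorem Loc.exists_seven : ∃ x : stabilizer G o, orderOf x = 7 ∧ orderOf (L.act x) = 7 := by
  classical
  haveI : Fact (Nat.Prime 7) := ⟨by norm_num⟩
  obtain ⟨x, hx⟩ := exists_prime_orderOf_dvd_card' (G := stabilizer G o) 7
    (Dvd.dvd.trans (by norm_num) L.card_stab_dvd)
  refine ⟨x, hx, ?_⟩
  refine orderOf_eq_prime (by rw [← map_pow, ← hx, pow_orderOf_eq_one, map_one]) fun h1 => ?_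
  have hx1 : x ≠ 1 := fun e => by rw [e, orderOf_one] at hx; norm_num at hx
  refine hx1 (Subtype.ext (Subtype.ext (Equiv.ext fun a => ?_)))
  show (x : G) • a = a
  rcases eq_or_ne a o with rfl | ha
  · exact x.2
  by_contra hne
  have h7 : ((x : G) ^ 7) • a = a := by
    rw [← Subgroup.coe_pow, ← hx, pow_orderOf_eq_one, Subgroup.coe_one, one_smul]
  have hper : MulAction.period (x : G) a = 7 := by
    refine ((Nat.dvd_prime (by norm_num)).1 (MulAction.pow_smul_eq_iff_period_dvd.1 h7)).resolve_left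
      fun e => hne ?_
    have := MulAction.pow_period_smul (x : G) a
    rwa [e, pow_one] at this
  have hmem : ∀ n : ℕ, ((x : G) ^ n) • a ∈ orbit (P : Subgroup G) a := fun n =>
    L.act_fixed (g := x ^ n) (by rw [map_pow, h1, one_pow]) ha
  have key : ∀ m n : ℕ, m ≤ n → n < 7 → ((x : G) ^ m) • a = ((x : G) ^ n) • a → m = n := by
    intro m n hle hn h
    obtain ⟨d, rfl⟩ := Nat.exists_eq_add_of_le hle
    simp only [pow_add, mul_smul] at h
    have hd := MulAction.pow_smul_eq_iff_period_dvd.1 (smul_left_cancel _ h).symm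
    rw [hper] at hd
    omega
  have hinj : Set.InjOn (fun n : ℕ => ((x : G) ^ n) • a) ↑(Finset.range 7) := by
    intro m hm n hn h
    rw [Finset.coe_range, Set.mem_Iio] at hm hn
    rcases le_total m n with hle | hle
    · exact key m n hle hn h
    · exact (key n m hle hm h.symm).symm
  have := Finset.card_le_card_of_injOn (s := Finset.range 7) (t := (orbit (P : Subgroup G) a).toFinset)
    (fun n : ℕ => ((x : G) ^ n) • a) (fun n _ => by simpa using hmem n) hinj
  rw [← Set.ncard_eq_toFinset_card', L.ncard_orbit ha] at this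
  simp at this

theorem Loc.cycle : ∃ x : stabilizer G o, orderOf x = 7 ∧ orderOf (L.act x) = 7 ∧
    ∀ a b : α, a ≠ o → b ≠ o → ∃ i : ℕ, ((x : G) ^ i) • a ∈ orbit (P : Subgroup G) b := by
  classical
  obtain ⟨x, hx, hax⟩ := L.exists_seven
  refine ⟨x, hx, hax, fun a b ha hb => ?_⟩
  haveI : Fintype (Blk G o P) := Fintype.ofFinite _
  obtain ⟨hcyc, hsupp⟩ := isCycle_of_orderOf_seven
    (by rw [← Nat.card_eq_fintype_card, L.card_blk]) hax
  have hne : ∀ T : Blk G o P, L.act x T ≠ T := fun T => Perm.mem_support.1 (hsupp ▸ Finset.mem_univ T)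
  obtain ⟨i, hi⟩ := hcyc.exists_pow_eq (hne ⟨_, a, ha, rfl⟩) (hne ⟨_, b, hb, rfl⟩)
  refine ⟨i, ?_⟩
  rw [← map_pow] at hi
  have h2 : (fun y => ((x : G) ^ i) • y) '' orbit (P : Subgroup G) a = orbit (P : Subgroup G) b :=
    congrArg Subtype.val hi
  rw [← h2]
  exact ⟨a, MulAction.mem_orbit_self a, rfl⟩

end CfsgLib.SylowNumbers.TwentyTwo
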