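import Cfsg.Agent.Lib.SylowNumbers.TwentyTwo.Triples

/-!
A doubly transitive group of degree 22 in the minimal configuration does not exist.
-/

set_option autoImplicit false

namespace CfsgLib.SylowNumbers.TwentyTwo

open Equiv Subgroup MulAction
open scoped Pointwise

variable {α : Type*} [Fintype α] [DecidableEq α] {G : Subgroup (Perm α)}

theorem Hyp.no_small (hG : Hyp G) {v : G} (hv : v ≠ 1) (h3 : (v : Perm α).support.card ≤ 3) : False := by
  have h0 : (v : Perm α).support.card ≠ 0 := by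
    rw [Finset.card_ne_zero, Finset.nonempty_iff_ne_empty, Ne, Perm.support_eq_empty_iff]
    exact fun e => hv (Subtype.ext e)
  have h1 : (v : Perm α).support.card ≠ 1 := Perm.card_support_ne_one _
  have h2 : (v : Perm α).support.card ≠ 2 := fun e => by
    have hs := (Perm.card_support_eq_two.1 e).sign_eq
    rw [hG.sign_eq_one] at hs
    exact absurd hs (by decide)
  have h3' : (v : Perm α).IsThreeCycle := card_support_eq_three_iff.1 (by omega)
  exact hG.not_alternating (Equiv.Perm.alternatingGroup_le_of_isPreprimitive_of_isThreeCycle_mem hG.primitive h3' v.2)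

theorem Hyp.no_meet (hG : Hyp G) {σ τ : G} {a : α} (hσ : σ • a ≠ a) (hτ : τ • a ≠ a)
    (h : ∀ x, σ • x ≠ x → τ • x ≠ x → x = a) : False := by
  have hσ' : σ⁻¹ • a ≠ a := fun e => hσ (by conv_lhs => rw [← e, smul_inv_smul])
  refine hG.no_small (v := σ * τ * σ⁻¹ * τ⁻¹) (fun h1 => ?_) ?_
  · -- the image of `τ a`
    have hfix : τ • σ⁻¹ • a = σ⁻¹ • a := by
      by_contra hne
      refine hσ' (h _ (fun e => hσ' ?_) hne)
      rw [smul_inv_smul] at e
      exact e.symm
    have h2 := congrArg (fun g : G => g • (τ • a)) h1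
    simp only [one_smul, mul_smul, inv_smul_smul, hfix, smul_inv_smul] at h2
    exact hτ h2.symm
  · refine (Finset.card_le_card (t := {a, σ • a, τ • a}) fun y hy => ?_).trans Finset.card_le_three
    have hy' : (σ * τ * σ⁻¹ * τ⁻¹) • y ≠ y := Perm.mem_support.1 hy
    simp only [mul_smul] at hy'
    simp only [Finset.mem_insert, Finset.mem_singleton]
    by_contra! hn
    obtain ⟨hna, hnσ, hnτ⟩ := hn
    by_cases hty : τ • y = y
    · have hty' : τ⁻¹ • y = y := inv_smul_eq_iff.2 hty.symm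
      rw [hty'] at hy'
      by_cases hw : τ • σ⁻¹ • y = σ⁻¹ • y
      · exact hy' (by rw [hw, smul_inv_smul])
      · by_cases hσy : σ • σ⁻¹ • y = σ⁻¹ • y
        · rw [smul_inv_smul] at hσy
          exact hw (by rw [← hσy, hty])
        · exact hnσ (by rw [← h _ hσy hw, smul_inv_smul])
    · have hσy : σ • y = y := by
        by_contra hne; exact hna (h y hne hty)
      have hτw : τ • τ⁻¹ • y ≠ τ⁻¹ • y := by
        rw [smul_inv_smul]; intro e; exact hty (by conv_lhs => rw [e, smul_inv_smul])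
      have hσw : σ • τ⁻¹ • y = τ⁻¹ • y := by
        by_contra hne; exact hnτ (by rw [← h _ hne hτw, smul_inv_smul])
      refine hy' ?_
      rw [inv_smul_eq_iff.2 hσw.symm, smul_inv_smul, hσy]

variable {o : α} {P : Sylow 3 G} (L : Loc G o P)

include L

theorem Loc.card_cases : Nat.card (P : Subgroup G) = 3 ∨ 3 ^ 6 ≤ Nat.card (P : Subgroup G) := by
  classical
  haveI : Fact (Nat.Prime 7) := ⟨by norm_num⟩
  obtain ⟨x, hx, -, htr⟩ := L.cycle
  have hxn : (x : G) ∈ normalizer ((P : Subgroup G) : Set G) := L.fix_iff.1 x.2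
  set C := (P : Subgroup G) ⊓ Subgroup.centralizer {(x : G)} with hC
  obtain ⟨a, ha⟩ : ∃ a, a ≠ o := Fintype.exists_ne_of_one_lt_card (by rw [L.hyp.card]; norm_num) o
  have hC3 : Nat.card C ≤ 3 := by
    have hinj : Function.Injective (fun u : C =>
        (⟨(u : G) • a, mem_orbit_sub.2 ⟨u, u.2.1, rfl⟩⟩ : orbit (P : Subgroup G) a)) := by
      intro u v huv
      have huv' : (u : G) • a = (v : G) • a := congrArg Subtype.val huv
      have hd : (u : G)⁻¹ * v ∈ C := mul_mem (inv_mem u.2) v.2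
      refine Subtype.ext (inv_mul_eq_one.1 (Subtype.ext (Equiv.ext fun b => ?_)))
      show ((u : G)⁻¹ * v) • b = b
      rcases eq_or_ne b o with rfl | hb
      · exact L.fix hd.1
      obtain ⟨i, hi⟩ := htr a b ha hb
      have hxa : ((x : G) ^ i) • a ≠ o := fun e => L.not_mem_orbit hb (e ▸ hi)
      refine L.fix_orbit hxa hd.1 ?_ (by rw [MulAction.orbit_eq_iff.2 hi]; exact MulAction.mem_orbit_self b)
      have hc : Commute ((u : G)⁻¹ * v) (x : G) :=
        (Subgroup.mem_centralizer_singleton_iff.1 hd.2)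
      rw [← mul_smul, (hc.pow_right i).eq, mul_smul]
      congr 1
      rw [mul_smul, ← huv', inv_smul_smul]
    refine (Nat.card_le_card_of_injective _ hinj).trans (le_of_eq ?_)
    rw [Nat.card_coe_set_eq, L.ncard_orbit ha]
  let Z := Subgroup.zpowers (x : G)
  have hZn : Z ≤ normalizer ((P : Subgroup G) : Set G) := Subgroup.zpowers_le.2 hxn
  letI : MulAction Z (P : Subgroup G) :=
    { smul := fun g u => ⟨(g : G) * u * (g : G)⁻¹, (Subgroup.mem_normalizer_iff.1 (hZn g.2) u).1 u.2⟩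
      one_smul := fun u => Subtype.ext (by
        show ((1 : Z) : G) * u * ((1 : Z) : G)⁻¹ = u
        simp)
      mul_smul := fun g h u => Subtype.ext (by
        show ((g * h : Z) : G) * u * ((g * h : Z) : G)⁻¹ = (g : G) * ((h : G) * u * (h : G)⁻¹) * (g : G)⁻¹
        rw [Subgroup.coe_mul]; group) }
  have hZ : IsPGroup 7 Z := IsPGroup.of_card (n := 1) (by
    rw [Nat.card_zpowers, Subgroup.orderOf_coe, hx, pow_one])
  have hmod := hZ.card_modEq_card_fixedPoints (α := (P : Subgroup G))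
  have hfp : Nat.card (fixedPoints Z (P : Subgroup G)) = Nat.card C := by
    refine Nat.card_congr
      { toFun := fun u => ⟨u.1.1, u.1.2, Subgroup.mem_centralizer_singleton_iff.2 ?_⟩
        invFun := fun u => ⟨⟨u.1, u.2.1⟩, fun g => Subtype.ext ?_⟩
        left_inv := fun u => rfl
        right_inv := fun u => rfl }
    · have h : (x : G) * u.1.1 * (x : G)⁻¹ = u.1.1 :=
        congrArg Subtype.val (u.2 ⟨(x : G), Subgroup.mem_zpowers _⟩)
      calc (u.1.1 : G) * x = (x : G) * u.1.1 * (x : G)⁻¹ * x := by rw [h]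
        _ = (x : G) * u.1.1 := by group
    · obtain ⟨k, hk⟩ := Subgroup.mem_zpowers_iff.1 g.2
      have hc : Commute (u : G) (x : G) := Subgroup.mem_centralizer_singleton_iff.1 u.2.2
      show (g : G) * u * (g : G)⁻¹ = u
      rw [← hk, ← (hc.zpow_right k).eq, mul_inv_cancel_right]
  rw [hfp] at hmod
  obtain ⟨j, hj⟩ := (P.2.to_le (inf_le_left : C ≤ (P : Subgroup G))).exists_card_eq
  obtain ⟨i, hi⟩ := IsPGroup.iff_card.1 P.2
  rw [hi, hj] at hmod
  rw [hj] at hC3
  unfold Nat.ModEq at hmod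
  have hj1 : j ≤ 1 := by
    by_contra h
    have := Nat.pow_le_pow_right (show 0 < 3 by norm_num) (show 2 ≤ j by omega)
    omega
  rw [hi]
  by_contra! hne
  obtain ⟨hne1, hne2⟩ := hne
  have hi6 : i < 6 := (Nat.pow_lt_pow_iff_right (by norm_num)).1 hne2
  have hi0 : i ≠ 0 := by
    rintro rfl
    refine ha (L.only a fun u hu => ?_)
    rw [pow_zero, Subgroup.card_eq_one] at hi
    rw [hi, Subgroup.mem_bot] at hu
    rw [hu, one_smul]
  interval_cases j <;> interval_cases i <;> first | omega | (revert hmod hne1; norm_num)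

theorem Loc.meet_le (S : Set α) (hS : S.ncard = 3) :
    Nat.card {T : Blk G o P // (T.1 ∩ S).Nonempty} ≤ 3 := by
  classical
  refine (Nat.card_le_card_of_injective (fun T => (⟨T.2.some, T.2.some_mem.2⟩ : S)) fun T T' h => ?_).trans
    (le_of_eq (by rw [Nat.card_coe_set_eq, hS]))
  have h' : T.2.some = T'.2.some := congrArg Subtype.val h
  obtain ⟨a, -, hT⟩ := T.1.2
  obtain ⟨b, -, hT'⟩ := T'.1.2
  have h1 : T.2.some ∈ orbit (P : Subgroup G) a := hT ▸ T.2.some_mem.1
  have h2 : T.2.some ∈ orbit (P : Subgroup G) b := h' ▸ hT' ▸ T'.2.some_mem.1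
  exact Subtype.ext (Subtype.ext (by
    rw [hT, hT', ← MulAction.orbit_eq_iff.2 h1, ← MulAction.orbit_eq_iff.2 h2]))

theorem Loc.exists_avoid (S : Set α) (hS : S.ncard = 3) (q : Blk G o P → Prop)
    (hq : Nat.card {T : Blk G o P // q T} ≤ 3) :
    ∃ T : Blk G o P, ¬ q T ∧ ∀ y ∈ T.1, y ∉ S := by
  classical
  haveI : Fintype (Blk G o P) := Fintype.ofFinite _
  by_contra! h
  have h7 := L.card_blk
  have h1 := L.meet_le S hS
  rw [Nat.card_eq_fintype_card] at h7
  rw [Nat.card_eq_fintype_card, Fintype.card_subtype] at h1 hq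
  have : (Finset.univ : Finset (Blk G o P)) ⊆
      Finset.univ.filter (fun T => q T) ∪ Finset.univ.filter (fun T : Blk G o P => (T.1 ∩ S).Nonempty) := by
    intro T _
    rw [Finset.mem_union, Finset.mem_filter, Finset.mem_filter]
    by_cases hT : q T
    · exact Or.inl ⟨Finset.mem_univ _, hT⟩
    · exact Or.inr ⟨Finset.mem_univ _, h T hT⟩
  have := (Finset.card_le_card this).trans (Finset.card_union_le _ _)
  rw [Finset.card_univ] at this
  omega

theorem Loc.two_support (hbig : 3 ^ 6 ≤ Nat.card (P : Subgroup G)) (T T' : Blk G o P) (hne : T ≠ T') :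
    ∃ v : G, ∀ y : α, v • y ≠ y ↔ y ∈ T.1 ∨ y ∈ T'.1 := by
  classical
  haveI : Fintype (Blk G o P) := Fintype.ofFinite _
  have hrep : ∀ S : Blk G o P, S.2.choose ≠ o ∧ S.1 = orbit (P : Subgroup G) S.2.choose :=
    fun S => S.2.choose_spec
  let rest := {S : Blk G o P // S ≠ T ∧ S ≠ T'}
  have h5 : Fintype.card rest = 5 := by
    have h7 := L.card_blk
    rw [Nat.card_eq_fintype_card] at h7
    rw [Fintype.card_subtype, show Finset.univ.filter (fun S : Blk G o P => S ≠ T ∧ S ≠ T') = ({T, T'} : Finset _)ᶜ by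
      ext S; simp, Finset.card_compl, Finset.card_pair hne, h7]
  let f : ↥(P : Subgroup G) → (∀ S : rest, orbit (P : Subgroup G) S.1.2.choose) :=
    fun u S => ⟨(u : G) • S.1.2.choose, mem_orbit_sub.2 ⟨u, u.2, rfl⟩⟩
  obtain ⟨u, u', huu, hf⟩ : ∃ u u', u ≠ u' ∧ f u = f u' := by
    by_contra! h
    have hinj : Function.Injective f := fun u u' e => by
      by_contra hne'; exact h u u' hne' e
    have hle := hbig.trans (Nat.card_le_card_of_injective f hinj)
    rw [Nat.card_pi, Finset.prod_congr rfl fun S _ => (show Nat.card (orbit (P : Subgroup G) S.1.2.choose) = 3 by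
      rw [Nat.card_coe_set_eq, L.ncard_orbit (hrep _).1]), Finset.prod_const, Finset.card_univ, h5] at hle
    norm_num at hle
  set v : G := (u : G)⁻¹ * u' with hv
  have hvP : v ∈ (P : Subgroup G) := mul_mem (inv_mem u.2) u'.2
  have hv1 : v ≠ 1 := fun e => huu (Subtype.ext (inv_mul_eq_one.1 e))
  have hfix : ∀ y, y ∉ T.1 → y ∉ T'.1 → v • y = y := by
    intro y h1 h2
    rcases eq_or_ne y o with rfl | hy
    · exact L.fix hvP
    have hS : ∀ S : Blk G o P, S.1 = orbit (P : Subgroup G) y → S ≠ T ∧ S ≠ T' := fun S hS =>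
      ⟨fun e => h1 (by rw [← e, hS]; exact MulAction.mem_orbit_self y),
        fun e => h2 (by rw [← e, hS]; exact MulAction.mem_orbit_self y)⟩
    set S : Blk G o P := ⟨_, y, hy, rfl⟩ with hSd
    have he : (u : G) • S.2.choose = (u' : G) • S.2.choose :=
      congrArg Subtype.val (congrFun hf ⟨S, hS S rfl⟩)
    refine L.fix_orbit (hrep S).1 hvP (by rw [hv, mul_smul, ← he, inv_smul_smul]) ?_
    rw [← (hrep S).2]
    exact MulAction.mem_orbit_self y
  have hmove : ∀ A B : Blk G o P, (∀ y, y ∉ A.1 → y ∉ B.1 → v • y = y) → ∀ y ∈ A.1, v • y ≠ y := by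
    intro A B hAB y hy e
    obtain ⟨ha, hA⟩ := hrep A
    rw [hA] at hy
    have hy0 : y ≠ o := fun h => L.not_mem_orbit ha (h ▸ hy)
    refine L.hyp.no_small hv1 ((Finset.card_le_card (t := B.1.toFinset) fun z hz => ?_).trans (le_of_eq ?_))
    · rw [Set.mem_toFinset]
      by_contra hzB
      refine Perm.mem_support.1 hz ?_
      by_cases hzA : z ∈ A.1
      · exact L.fix_orbit hy0 hvP e (by rw [MulAction.orbit_eq_iff.2 hy, ← hA]; exact hzA)
      · exact hAB z hzA hzB
    · rw [← Set.ncard_eq_toFinset_card', (hrep B).2, L.ncard_orbit (hrep B).1]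
  refine ⟨v, fun y => ⟨fun h => ?_, fun h => ?_⟩⟩
  · by_contra! hn
    exact h (hfix y hn.1 hn.2)
  · rcases h with h | h
    · exact hmove T T' hfix y h
    · exact hmove T' T (fun y h1 h2 => hfix y h2 h1) y h

variable {o' : α} {P' : Sylow 3 G}

theorem Loc.no_single (L' : Loc G o' P') (hbig : 3 ^ 6 ≤ Nat.card (P : Subgroup G))
    (hbig' : 3 ^ 6 ≤ Nat.card (P' : Subgroup G)) {a : α} (ha : a ≠ o) (ha' : a ≠ o')
    (h : ∀ b ∈ orbit (P : Subgroup G) a, b ∈ orbit (P' : Subgroup G) a → b = a) : False := by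
  classical
  set A : Blk G o P := ⟨_, a, ha, rfl⟩ with hA
  set C : Blk G o' P' := ⟨_, a, ha', rfl⟩ with hC
  -- a triple of `P'` disjoint from `A`
  obtain ⟨D, hDC, hD⟩ : ∃ D : Blk G o' P', D ≠ C ∧ ∀ y ∈ D.1, y ∉ A.1 := by
    obtain ⟨D, -, hD⟩ := L'.exists_avoid A.1 (L.ncard_orbit ha) (fun _ => False) (by simp)
    refine ⟨D, ?_, hD⟩
    rintro rfl
    exact hD a (MulAction.mem_orbit_self a) (MulAction.mem_orbit_self a)
  obtain ⟨b₀, hb₀, hDe⟩ := D.2
  -- a triple of `P` disjoint from both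
  obtain ⟨B, hBC, hBD⟩ := L.exists_avoid D.1 (by rw [hDe]; exact L'.ncard_orbit hb₀)
    (fun T => (T.1 ∩ C.1).Nonempty) (L.meet_le C.1 (L'.ncard_orbit ha'))
  have hBA : A ≠ B := fun e => hBC (e ▸ ⟨a, MulAction.mem_orbit_self a, MulAction.mem_orbit_self a⟩)
  obtain ⟨σ, hσ⟩ := L.two_support hbig A B hBA
  obtain ⟨τ, hτ⟩ := L'.two_support hbig' C D (Ne.symm hDC)
  refine L.hyp.no_meet ((hσ a).2 (Or.inl (MulAction.mem_orbit_self a)))
    ((hτ a).2 (Or.inl (MulAction.mem_orbit_self a))) fun y hy hy' => ?_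
  rcases (hσ y).1 hy with hyA | hyB <;> rcases (hτ y).1 hy' with hyC | hyD
  · exact h y hyA hyC
  · exact absurd hyA (hD y hyD)
  · exact absurd ⟨y, hyB, hyC⟩ hBC
  · exact absurd hyD (hBD y hyB)

theorem Loc.share (L' : Loc G o' P') (hbig : 3 ^ 6 ≤ Nat.card (P : Subgroup G))
    (hbig' : 3 ^ 6 ≤ Nat.card (P' : Subgroup G)) {a : α} (ha : a ≠ o) (ha' : a ≠ o')
    (ho' : o' ∉ orbit (P : Subgroup G) a) :
    orbit (P' : Subgroup G) a = orbit (P : Subgroup G) a := by
  classical
  have hpair : ∀ c ∈ orbit (P : Subgroup G) a, ∃ d ∈ orbit (P : Subgroup G) a,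
      d ≠ c ∧ orbit (P' : Subgroup G) d = orbit (P' : Subgroup G) c := by
    intro c hc
    by_contra! hn
    refine L.no_single L' hbig hbig' (a := c) (fun e => L.not_mem_orbit ha (e ▸ hc)) (fun e => ho' (e ▸ hc)) ?_
    intro b hb hb'
    by_contra hbc
    rw [MulAction.orbit_eq_iff.2 hc] at hb
    exact hn b hb hbc (MulAction.orbit_eq_iff.2 hb')
  obtain ⟨b, hb, hba, hbo⟩ := hpair a (MulAction.mem_orbit_self a)
  have hsub : orbit (P : Subgroup G) a ⊆ orbit (P' : Subgroup G) a := by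
    intro c hc
    by_contra hc'
    obtain ⟨d, hd, hdc, hdo⟩ := hpair c hc
    have hca : a ≠ c := fun e => hc' (e ▸ MulAction.mem_orbit_self a)
    have hcb : b ≠ c := fun e => hc' (by rw [← e, ← hbo]; exact MulAction.mem_orbit_self b)
    have h3 : ({a, b, c} : Set α) = orbit (P : Subgroup G) a := by
      refine Set.eq_of_subset_of_ncard_le ?_ (le_of_eq ?_)
      · rintro x (rfl | rfl | rfl)
        exacts [MulAction.mem_orbit_self _, hb, hc]
      · rw [L.ncard_orbit ha]
        exact (Set.ncard_eq_three.2 ⟨a, b, c, Ne.symm hba, hca, hcb, rfl⟩).symm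
    rw [← h3] at hd
    rcases hd with rfl | rfl | rfl
    · exact hc' (by rw [hdo]; exact MulAction.mem_orbit_self c)
    · exact hc' (by rw [← hbo, hdo]; exact MulAction.mem_orbit_self c)
    · exact hdc rfl
  exact (Set.eq_of_subset_of_ncard_le hsub (by rw [L.ncard_orbit ha, L'.ncard_orbit ha'])).symm

omit L

theorem false_of_big (hloc : ∀ o : α, ∃ P : Sylow 3 G, Loc G o P ∧ 3 ^ 6 ≤ Nat.card (P : Subgroup G))
    (hcard : Fintype.card α = 22) : False := by
  classical
  obtain ⟨o⟩ : Nonempty α := Fintype.card_pos_iff.1 (by rw [hcard]; norm_num)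
  obtain ⟨P, L, hP⟩ := hloc o
  obtain ⟨p, hp⟩ : ∃ p, p ≠ o := Fintype.exists_ne_of_one_lt_card (by rw [hcard]; norm_num) o
  obtain ⟨Pp, Lp, hPp⟩ := hloc p
  have hop : o ≠ p := Ne.symm hp
  obtain ⟨q, hqA, hqo⟩ : ∃ q, q ∉ orbit (P : Subgroup G) p ∧ q ≠ o := by
    by_contra! h
    have hsub : (Finset.univ.erase o) ⊆ (orbit (P : Subgroup G) p).toFinset := by
      intro y hy
      rw [Set.mem_toFinset]
      by_contra hy'
      exact (Finset.mem_erase.1 hy).1 (h y hy')
    have := Finset.card_le_card hsub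
    rw [Finset.card_erase_of_mem (Finset.mem_univ o), Finset.card_univ, hcard, ← Set.ncard_eq_toFinset_card',
      L.ncard_orbit hp] at this
    norm_num at this
  obtain ⟨Pq, Lq, hPq⟩ := hloc q
  -- the triple of `p` through `o`
  have hC : ∀ c ∈ orbit (Pp : Subgroup G) o, c ≠ o → c ∈ orbit (P : Subgroup G) p := by
    intro c hc hco
    by_contra hcA
    have hcp : c ≠ p := fun e => Lp.not_mem_orbit hop (e ▸ hc)
    have hpc : p ∉ orbit (P : Subgroup G) c := fun h => hcA (by
      rw [MulAction.orbit_eq_iff.2 h]; exact MulAction.mem_orbit_self c)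
    have he := L.share Lp hP hPp hco hcp hpc
    rw [MulAction.orbit_eq_iff.2 hc] at he
    exact L.not_mem_orbit hco (he ▸ MulAction.mem_orbit_self o)
  obtain ⟨a, haC, hao⟩ : ∃ a, a ∈ orbit (Pp : Subgroup G) o ∧ a ≠ o := by
    by_contra! h
    have hsub : orbit (Pp : Subgroup G) o ⊆ {o} := fun y hy => h y hy
    have := Set.ncard_le_ncard hsub
    rw [Lp.ncard_orbit hop, Set.ncard_singleton] at this
    norm_num at this
  have haA := hC a haC hao
  have hap : a ≠ p := fun e => Lp.not_mem_orbit hop (e ▸ haC)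
  have hqa : q ∉ orbit (P : Subgroup G) a := by rw [MulAction.orbit_eq_iff.2 haA]; exact hqA
  have haq : a ≠ q := fun e => hqA (e ▸ haA)
  have e1 := L.share Lq hP hPq hao haq hqa
  have hqC : q ∉ orbit (Pp : Subgroup G) a := by
    rw [MulAction.orbit_eq_iff.2 haC]
    exact fun h => hqA (hC q h hqo)
  have e2 := Lp.share Lq hPp hPq hap haq hqC
  rw [e1, MulAction.orbit_eq_iff.2 haC] at e2
  exact L.not_mem_orbit hao (e2.symm ▸ MulAction.mem_orbit_self o)

end CfsgLib.SylowNumbers.TwentyTwo
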